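/-
Jordan structure of a unipotent operator of `p`-power order whose centraliser in the endomorphism
ring consists, up to scalars, of traces of the element of order `p`.
-/
import Mathlib

set_option autoImplicit false
set_option linter.unusedSectionVars false

namespace Cfsg.Agent.Lib.HallHigmanB

open Module

section Poly

open Polynomial

variable {k : Type*} [Field k] {p : ℕ} [hp : Fact p.Prime] [CharP k p]

theorem geom_sum_poly (l : ℕ) :
    ∑ i ∈ Finset.range (p ^ l), (X : k[X]) ^ i = (X - 1) ^ (p ^ l - 1) := by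
  have hne : (X - 1 : k[X]) ≠ 0 := by
    rw [← map_one (C : k →+* k[X])]
    exact X_sub_C_ne_zero 1
  refine mul_right_cancel₀ hne ?_
  rw [geom_sum_mul, ← pow_succ, Nat.sub_add_cancel (Nat.one_le_pow _ _ hp.out.pos),
    sub_pow_char_pow, one_pow]

variable {M : Type*} [AddCommGroup M] [Module k M]

theorem geom_sum_end (X₀ : Module.End k M) (l : ℕ) :
    ∑ i ∈ Finset.range (p ^ l), X₀ ^ i = (X₀ - 1) ^ (p ^ l - 1) := by
  have := congrArg (aeval X₀) (geom_sum_poly (k := k) (p := p) l)
  simpa using this

theorem sub_one_pow_char_pow (X₀ : Module.End k M) (l : ℕ) :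
    (X₀ - 1) ^ p ^ l = X₀ ^ p ^ l - 1 := by
  have := congrArg (aeval X₀) (sub_pow_char_pow (p := p) (n := l) (X : k[X]) 1)
  simpa using this

/-- `∑ i X^i = -X (X-1)^(p-2)` in characteristic `p`. -/
theorem weighted_sum_poly :
    ∑ i ∈ Finset.range p, (i : k[X]) * X ^ i = -(X * (X - 1) ^ (p - 2)) := by
  have hne : (X - 1 : k[X]) ≠ 0 := by
    rw [← map_one (C : k →+* k[X])]
    exact X_sub_C_ne_zero 1
  refine mul_right_cancel₀ hne ?_
  have h1 : ∀ m : ℕ, (∑ i ∈ Finset.range m, (i : k[X]) * X ^ i) * (X - 1) =
      (m : k[X]) * X ^ m - X * ∑ i ∈ Finset.range m, X ^ i := by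
    intro m
    induction m with
    | zero => simp
    | succ m ih =>
      rw [Finset.sum_range_succ, add_mul, ih, Finset.sum_range_succ]
      push_cast
      ring
  have h2 : p - 2 + 1 = p - 1 := by have := hp.out.two_le; omega
  have h3 := geom_sum_poly (k := k) (p := p) 1
  rw [pow_one] at h3
  rw [h1, CharP.cast_eq_zero, zero_mul, zero_sub, h3, neg_mul, mul_assoc, ← pow_succ, h2]

theorem weighted_sum_end (y : Module.End k M) :
    ∑ i ∈ Finset.range p, (i : Module.End k M) * y ^ i = -(y * (y - 1) ^ (p - 2)) := by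
  have := congrArg (aeval y) (weighted_sum_poly (k := k) (p := p))
  simpa using this

end Poly

variable {k : Type*} [Field k] {p : ℕ} [hp : Fact p.Prime] [CharP k p]
  {M : Type*} [AddCommGroup M] [Module k M]

/-- Hypothesis: the centraliser of `y` consists of scalars plus traces. -/
def CentraliserTrace (p : ℕ) (y : Module.End k M) : Prop :=
  ∀ A : Module.End k M, Commute A y →
    ∃ (c : k) (B : Module.End k M), A = c • 1 + ∑ i ∈ Finset.range p, y ^ i * B * y ^ (p - i)

theorem pow_apply_of_fixed {y : Module.End k M} {u : M} (h : y u = u) (i : ℕ) :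
    (y ^ i) u = u := by
  induction i with
  | zero => simp
  | succ i ih => rw [pow_succ, Module.End.mul_apply, h, ih]

/-- The fixed space exceeds the image of the trace by at most one dimension. -/
theorem exists_smul_sub_mem {y : Module.End k M} (hC : CentraliserTrace p y) {u v : M}
    (hu : (y - 1) u = 0) (hv : (y - 1) v = 0)
    (huI : u ∉ LinearMap.range ((y - 1) ^ (p - 1))) :
    ∃ c : k, v - c • u ∈ LinearMap.range ((y - 1) ^ (p - 1)) := by
  set L := y - 1 with hL
  obtain ⟨j, hj1, hj2⟩ : ∃ j, u ∈ LinearMap.range (L ^ j) ∧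
      u ∉ LinearMap.range (L ^ (j + 1)) := by
    by_contra hc
    push Not at hc
    have : ∀ j, u ∈ LinearMap.range (L ^ j) := by
      intro j
      induction j with
      | zero => exact ⟨u, by simp⟩
      | succ j ih => exact hc j ih
    exact huI (this _)
  obtain ⟨w, hw⟩ := hj1
  obtain ⟨φ, hφu, hφ⟩ := Submodule.exists_dual_map_eq_bot_of_notMem hj2 inferInstance
  have hφ0 : ∀ z, φ ((L ^ (j + 1)) z) = 0 := fun z => by
    have h1 : φ ((L ^ (j + 1)) z) ∈ (LinearMap.range (L ^ (j + 1))).map φ :=
      Submodule.mem_map_of_mem ⟨z, rfl⟩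
    rwa [hφ, Submodule.mem_bot] at h1
  set A : Module.End k M :=
    ∑ i ∈ Finset.range (j + 1), ((φ.comp (L ^ i)).smulRight ((L ^ (j - i)) w)) with hA
  have hAL : Commute A L := by
    refine LinearMap.ext fun z => ?_
    simp only [hA, Module.End.mul_apply, LinearMap.sum_apply, LinearMap.smulRight_apply,
      LinearMap.comp_apply, map_sum, map_smul]
    rw [Finset.sum_range_succ, Finset.sum_range_succ' (fun i => φ ((L ^ i) z) • L ((L ^ (j - i)) w))]
    congr 1
    · refine Finset.sum_congr rfl fun i hi => ?_
      rw [Finset.mem_range] at hi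
      rw [← Module.End.mul_apply (L ^ i) L, ← pow_succ, ← Module.End.mul_apply L, ← pow_succ',
        show j - (i + 1) + 1 = j - i by omega]
    · rw [← Module.End.mul_apply, ← pow_succ, hφ0, zero_smul, Nat.sub_zero, hw, hu, smul_zero]
  have hAy : Commute A y := by
    have : y = L + 1 := by rw [hL, sub_add_cancel]
    rw [this]
    exact hAL.add_right (Commute.one_right A)
  have hAker : ∀ z, L z = 0 → A z = φ z • u := by
    intro z hz
    simp only [hA, LinearMap.sum_apply, LinearMap.smulRight_apply, LinearMap.comp_apply]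
    rw [Finset.sum_eq_single 0]
    · rw [pow_zero, Module.End.one_apply, Nat.sub_zero, hw]
    · intro i _ hi
      obtain ⟨i', rfl⟩ := Nat.exists_eq_succ_of_ne_zero hi
      rw [pow_succ, Module.End.mul_apply, hz, map_zero, map_zero, zero_smul]
    · simp
  obtain ⟨c, B, hB⟩ := hC A hAy
  have hI : ∀ z, L z = 0 → A z - c • z ∈ LinearMap.range (L ^ (p - 1)) := by
    intro z hz
    have hyz : y z = z := by rwa [hL, LinearMap.sub_apply, Module.End.one_apply, sub_eq_zero] at hz
    refine ⟨B z, ?_⟩
    have h1 : (∑ i ∈ Finset.range p, y ^ i) (B z) = (L ^ (p - 1)) (B z) := by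
      have := geom_sum_end (k := k) (p := p) y 1
      rw [pow_one] at this
      rw [this, hL]
    rw [← h1, hB, LinearMap.add_apply, LinearMap.smul_apply, Module.End.one_apply, add_sub_cancel_left,
      LinearMap.sum_apply, LinearMap.sum_apply]
    refine Finset.sum_congr rfl fun i _ => ?_
    rw [Module.End.mul_apply, Module.End.mul_apply, pow_apply_of_fixed hyz]
  have hu' := hI u hu
  rw [hAker u hu, ← sub_smul] at hu'
  have hc : φ u = c := by
    by_contra hne
    have := Submodule.smul_mem _ (φ u - c)⁻¹ hu'
    rw [smul_smul, inv_mul_cancel₀ (sub_ne_zero.mpr hne), one_smul] at this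
    exact huI this
  have hv' := hI v hv
  rw [hAker v hv] at hv'
  refine ⟨φ v / φ u, ?_⟩
  have := Submodule.smul_mem _ (-(φ u)⁻¹) hv'
  rw [← hc, smul_sub, smul_smul, smul_smul] at this
  rw [show v - (φ v / φ u) • u = (-(φ u)⁻¹ * φ v) • u - (-(φ u)⁻¹ * φ u) • v by
    rw [neg_mul, neg_mul, inv_mul_cancel₀ hφu, div_eq_inv_mul, neg_smul, neg_smul, one_smul]
    abel]
  exact this

variable [FiniteDimensional k M]

theorem finrank_ker_le {y : Module.End k M} (hC : CentraliserTrace p y) :
    finrank k (LinearMap.ker (y - 1)) ≤ finrank k (LinearMap.range ((y - 1) ^ (p - 1))) + 1 := by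
  set I := LinearMap.range ((y - 1) ^ (p - 1))
  by_cases h : LinearMap.ker (y - 1) ≤ I
  · exact (Submodule.finrank_mono h).trans (Nat.le_succ _)
  obtain ⟨u, hu, huI⟩ := SetLike.not_le_iff_exists.mp h
  have hle : LinearMap.ker (y - 1) ≤ I ⊔ Submodule.span k {u} := by
    intro v hv
    obtain ⟨c, hc⟩ := exists_smul_sub_mem hC (LinearMap.mem_ker.mp hu) (LinearMap.mem_ker.mp hv) huI
    exact Submodule.mem_sup.mpr ⟨_, hc, _, Submodule.smul_mem _ c
      (Submodule.mem_span_singleton_self u), sub_add_cancel v _⟩
  refine (Submodule.finrank_mono hle).trans ((Submodule.finrank_add_le_finrank_add_finrank _ _).trans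
    ?_)
  exact Nat.add_le_add_left (finrank_span_le_card ({u} : Set M)) _ |>.trans (by simp)

theorem ker_pow_stable {N : Module.End k M} {i : ℕ}
    (h : LinearMap.ker (N ^ (i + 1)) ≤ LinearMap.ker (N ^ i)) (t : ℕ) :
    LinearMap.ker (N ^ (i + t)) ≤ LinearMap.ker (N ^ i) := by
  induction t with
  | zero => simp
  | succ t ih =>
    intro v hv
    refine ih ?_
    rw [LinearMap.mem_ker] at hv ⊢
    have h1 : (N ^ t) v ∈ LinearMap.ker (N ^ (i + 1)) := by
      rw [LinearMap.mem_ker, ← Module.End.mul_apply, ← pow_add,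
        show i + 1 + t = i + (t + 1) by omega]
      exact hv
    have h2 := LinearMap.mem_ker.mp (h h1)
    rwa [← Module.End.mul_apply, ← pow_add] at h2

/-- A single Jordan block of size `p ^ (e + 1) - 1`. -/
theorem block_of_centraliserTrace {N : Module.End k M} {e : ℕ}
    (hzero : N ^ (p ^ (e + 1) - 1) = 0) (hne : N ^ p ^ e ≠ 0)
    (hC : CentraliserTrace p ((N + 1) ^ p ^ e)) :
    finrank k M = p ^ (e + 1) - 1 ∧ N ^ (p ^ (e + 1) - 2) ≠ 0 := by
  set P := p ^ e with hP
  have hP1 : 1 ≤ P := Nat.one_le_pow _ _ hp.out.pos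
  have hpP : p ^ (e + 1) = P * p := by rw [hP, pow_succ]
  have hp2 := hp.out.two_le
  have hPp : P * 2 ≤ P * p := Nat.mul_le_mul_left P hp2
  have hL : (N + 1) ^ P - 1 = N ^ P := by
    rw [hP, ← sub_one_pow_char_pow, add_sub_cancel_right]
  -- strictly increasing kernels
  have hstrict : ∀ i, N ^ i ≠ 0 →
      finrank k (LinearMap.ker (N ^ i)) < finrank k (LinearMap.ker (N ^ (i + 1))) := by
    intro i hi
    refine Submodule.finrank_lt_finrank_of_lt (lt_of_le_not_ge (fun v hv => ?_) fun h => hi ?_)
    · rw [LinearMap.mem_ker] at hv ⊢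
      rw [pow_succ', Module.End.mul_apply, hv, map_zero]
    · refine LinearMap.ker_eq_top.mp (top_le_iff.mp fun v _ => ker_pow_stable h
        (p ^ (e + 1) - 1) ?_)
      rw [LinearMap.mem_ker, pow_add, hzero, mul_zero, LinearMap.zero_apply]
  have hzero' : ∀ {i j}, i ≤ j → N ^ j ≠ 0 → N ^ i ≠ 0 := fun {i j} hij hj h0 =>
    hj (by rw [← Nat.add_sub_cancel' hij, pow_add, h0, zero_mul])
  have hlow : ∀ i, N ^ (i - 1) ≠ 0 → i ≤ finrank k (LinearMap.ker (N ^ i)) := by
    intro i
    induction i with
    | zero => intro _; exact Nat.zero_le _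
    | succ i ih =>
      intro hi
      rw [Nat.add_sub_cancel] at hi
      have := ih (hzero' (Nat.sub_le i 1) hi)
      have := hstrict i hi
      omega
  -- the two dimensions
  set a := finrank k (LinearMap.ker (N ^ P)) with ha
  set b := finrank k (LinearMap.range (N ^ (P * (p - 1)))) with hb
  have hab : a ≤ b + 1 := by
    have := finrank_ker_le hC
    rwa [hL, ← pow_mul] at this
  have hIle : LinearMap.range (N ^ (P * (p - 1))) ≤ LinearMap.ker (N ^ (P - 1)) := by
    rintro _ ⟨v, rfl⟩
    rw [LinearMap.mem_ker, ← Module.End.mul_apply, ← pow_add,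
      show P - 1 + P * (p - 1) = p ^ (e + 1) - 1 by
        rw [hpP, Nat.mul_sub, Nat.mul_one]; omega,
      hzero, LinearMap.zero_apply]
  have hlt : finrank k (LinearMap.ker (N ^ (P - 1))) < a := by
    have := hstrict (P - 1) (hzero' (Nat.sub_le P 1) hne)
    rwa [Nat.sub_add_cancel hP1] at this
  have hb' : b = finrank k (LinearMap.ker (N ^ (P - 1))) := by
    have := Submodule.finrank_mono hIle
    omega
  have hIeq : LinearMap.range (N ^ (P * (p - 1))) = LinearMap.ker (N ^ (P - 1)) :=
    Submodule.eq_of_le_of_finrank_eq hIle hb'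
  -- one block
  have hone : finrank k (LinearMap.ker N) ≤ 1 := by
    rcases Nat.eq_or_lt_of_le hP1 with h1 | h1
    · have h0 : finrank k (LinearMap.ker (N ^ (P - 1))) = 0 := by
        rw [← h1, Nat.sub_self, pow_zero, Module.End.one_eq_id, LinearMap.ker_id, finrank_bot]
      rw [ha, ← h1, pow_one] at hab
      omega
    · set f : LinearMap.ker (N ^ P) →ₗ[k] M := (N ^ (P - 1)).domRestrict _
      have hr : LinearMap.ker N ≤ LinearMap.range f := by
        intro z hz
        have hz' : z ∈ LinearMap.ker (N ^ (P - 1)) := by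
          rw [LinearMap.mem_ker] at hz ⊢
          rw [← Nat.sub_add_cancel (show 1 ≤ P - 1 by omega), pow_succ, Module.End.mul_apply, hz,
            map_zero]
        rw [← hIeq] at hz'
        obtain ⟨v, hv⟩ := hz'
        have hle2 : P - 1 ≤ P * (p - 1) := by
          rw [Nat.mul_sub, Nat.mul_one]; omega
        refine ⟨⟨(N ^ (P * (p - 1) - (P - 1))) v, ?_⟩, ?_⟩
        · rw [LinearMap.mem_ker, ← Module.End.mul_apply, ← pow_add,
            show P + (P * (p - 1) - (P - 1)) = P * (p - 1) + 1 by omega, pow_succ',
            Module.End.mul_apply, hv]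
          exact LinearMap.mem_ker.mp hz
        · show (N ^ (P - 1)) ((N ^ (P * (p - 1) - (P - 1))) v) = z
          rw [← Module.End.mul_apply, ← pow_add, Nat.add_sub_cancel' hle2, hv]
      have hk : finrank k (LinearMap.ker f) = finrank k (LinearMap.ker (N ^ (P - 1))) := by
        have hle3 : LinearMap.ker (N ^ (P - 1)) ≤ LinearMap.ker (N ^ P) := fun v hv => by
          rw [LinearMap.mem_ker] at hv ⊢
          rw [← Nat.sub_add_cancel hP1, pow_succ', Module.End.mul_apply, hv, map_zero]
        rw [LinearMap.ker_domRestrict]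
        exact LinearEquiv.finrank_eq (Submodule.comapSubtypeEquivOfLe hle3)
      have hrn := LinearMap.finrank_range_add_finrank_ker f
      have := Submodule.finrank_mono hr
      omega
  -- dimensions of the kernels
  have hup : ∀ i, finrank k (LinearMap.ker (N ^ i)) ≤ i := by
    intro i
    induction i with
    | zero => rw [pow_zero, Module.End.one_eq_id, LinearMap.ker_id, finrank_bot]
    | succ i ih =>
      set f : LinearMap.ker (N ^ (i + 1)) →ₗ[k] M := N.domRestrict _
      have hr : LinearMap.range f ≤ LinearMap.ker (N ^ i) := by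
        rintro _ ⟨v, rfl⟩
        rw [LinearMap.mem_ker]
        show (N ^ i) (N v) = 0
        rw [← Module.End.mul_apply, ← pow_succ]
        exact LinearMap.mem_ker.mp v.2
      have hkf : finrank k (LinearMap.ker f) ≤ finrank k (LinearMap.ker N) := by
        refine LinearMap.finrank_le_finrank_of_injective
          (f := ((LinearMap.ker (N ^ (i + 1))).subtype.comp (LinearMap.ker f).subtype).codRestrict
            (LinearMap.ker N) fun v => LinearMap.mem_ker.mpr (LinearMap.mem_ker.mp v.2 :)) ?_
        intro v w h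
        exact Subtype.ext (Subtype.ext (congrArg Subtype.val h :))
      have hrn := LinearMap.finrank_range_add_finrank_ker f
      have := Submodule.finrank_mono hr
      omega
  have hm : finrank k M ≤ p ^ (e + 1) - 1 := by
    have := hup (p ^ (e + 1) - 1)
    rwa [hzero, LinearMap.ker_zero, finrank_top] at this
  have hm1 : P < finrank k M + 1 := by
    have h1 := hlow P (hzero' (Nat.sub_le P 1) hne)
    have h2 := Submodule.finrank_le (LinearMap.ker (N ^ P))
    omega
  suffices hfr : finrank k M = p ^ (e + 1) - 1 by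
    refine ⟨hfr, fun h0 => ?_⟩
    have := hup (p ^ (e + 1) - 2)
    rw [h0, LinearMap.ker_zero, finrank_top] at this
    omega
  rcases Nat.eq_or_lt_of_le hP1 with h1 | h1
  · -- `y` has order `p`
    rw [hpP, ← h1, one_mul] at hm ⊢
    by_contra hmne
    set m := finrank k M with hm_def
    have hPe : (N + 1) ^ P = N + 1 := by rw [← h1, pow_one]
    rw [hPe] at hC
    have hN1 : N ≠ 0 := fun h => hne (by rw [h, zero_pow (by omega)])
    have hm2 : 2 ≤ m := by
      have h3 := hstrict 1 (by rwa [pow_one])
      have h4 := hstrict 0 (by rw [pow_zero]; intro h; exact hN1 (by rw [← mul_one N, h, mul_zero]))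
      have h5 := Submodule.finrank_le (LinearMap.ker (N ^ 2))
      rw [show (1 : ℕ) + 1 = 2 from rfl] at h3
      rw [zero_add] at h4
      omega
    have hNm : N ^ m = 0 := by
      by_contra hc
      have := hlow (m + 1) (by rwa [Nat.add_sub_cancel])
      have := Submodule.finrank_le (LinearMap.ker (N ^ (m + 1)))
      omega
    have hNm1 : N ^ (m - 1) ≠ 0 := by
      intro h0
      have := hup (m - 1)
      rw [h0, LinearMap.ker_zero, finrank_top] at this
      omega
    obtain ⟨c, B, hB⟩ := hC N ((Commute.refl N).add_right (Commute.one_right N))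
    set y := N + 1 with hy
    have hNp : N ^ (p - 2) = 0 := by
      rw [show p - 2 = m + (p - 2 - m) by omega, pow_add, hNm, zero_mul]
    have hyp : y ^ p = 1 := by
      have := sub_one_pow_char_pow (k := k) (p := p) y 1
      rw [pow_one, hy, add_sub_cancel_right, show p = m + (p - m) by omega, pow_add, hNm,
        zero_mul, ← show p = m + (p - m) by omega] at this
      rw [hy]
      exact (sub_eq_zero.mp this.symm)
    -- left multiplication by `N ^ (m - 2)` linearises powers of `y`
    have hlin : ∀ i : ℕ, N ^ (m - 2) * y ^ i = N ^ (m - 2) + (i : Module.End k M) * N ^ (m - 1) := by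
      intro i
      induction i with
      | zero => simp
      | succ i ihi =>
        rw [pow_succ, ← mul_assoc, ihi, hy, mul_add, mul_one, add_mul, mul_assoc, ← pow_succ,
          ← pow_succ, show m - 2 + 1 = m - 1 by omega, Nat.sub_add_cancel (show 1 ≤ m by omega),
          hNm, mul_zero, add_zero, Nat.cast_succ, add_mul, one_mul]
        abel
    have hsum0 : ∑ i ∈ Finset.range p, y ^ (p - i) = 0 := by
      have h6 := geom_sum_end (k := k) (p := p) y 1
      rw [pow_one, hy, add_sub_cancel_right, show p - 1 = p - 2 + 1 by omega, pow_succ, hNp,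
        zero_mul] at h6
      rw [← Finset.sum_range_reflect]
      calc _ = ∑ i ∈ Finset.range p, y * y ^ i := Finset.sum_congr rfl fun i hi => by
              rw [Finset.mem_range] at hi
              rw [← pow_succ', show p - (p - 1 - i) = i + 1 by omega]
        _ = 0 := by rw [← Finset.mul_sum, hy, h6, mul_zero]
    have hsum1 : ∑ i ∈ Finset.range p, (i : Module.End k M) * y ^ (p - i) = 0 := by
      have h6 := weighted_sum_end (k := k) (p := p) y
      rw [hy, add_sub_cancel_right, hNp, mul_zero, neg_zero] at h6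
      rw [← hy] at h6
      rw [← Finset.sum_range_reflect]
      calc _ = ∑ i ∈ Finset.range p, -(y * ((i : Module.End k M) * y ^ i) + y ^ (i + 1)) :=
            Finset.sum_congr rfl fun i hi => by
              rw [Finset.mem_range] at hi
              have e1 : ((p - 1 - i : ℕ) : Module.End k M) = -((i : Module.End k M) + 1) := by
                rw [eq_neg_iff_add_eq_zero, ← Nat.cast_succ, ← Nat.cast_add,
                  show p - 1 - i + i.succ = p by omega]
                rw [← map_natCast (algebraMap k (Module.End k M)), CharP.cast_eq_zero, map_zero]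
              rw [show p - (p - 1 - i) = i + 1 by omega, e1, ← mul_assoc, (Nat.cast_commute i y).eq.symm,
                mul_assoc, ← pow_succ', neg_mul, add_mul, one_mul]
        _ = 0 := by
          rw [Finset.sum_neg_distrib, Finset.sum_add_distrib, ← Finset.mul_sum, h6, mul_zero,
            zero_add]
          have h7 := geom_sum_end (k := k) (p := p) y 1
          rw [pow_one, hy, add_sub_cancel_right, show p - 1 = p - 2 + 1 by omega, pow_succ, hNp,
            zero_mul, ← hy] at h7
          rw [Finset.sum_congr rfl fun i _ => pow_succ' y i, ← Finset.mul_sum, h7, mul_zero,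
            neg_zero]
    have key : N ^ (m - 2) * ∑ i ∈ Finset.range p, y ^ i * B * y ^ (p - i) = 0 := by
      rw [Finset.mul_sum]
      calc _ = ∑ i ∈ Finset.range p, (N ^ (m - 2) * B * y ^ (p - i) +
            N ^ (m - 1) * B * ((i : Module.End k M) * y ^ (p - i))) :=
            Finset.sum_congr rfl fun i _ => by
              rw [← mul_assoc, ← mul_assoc, hlin, add_mul, add_mul]
              congr 1
              rw [(Nat.cast_commute i (N ^ (m - 1))).eq, mul_assoc (N ^ (m - 1)) _ B,
                (Nat.cast_commute i B).eq, ← mul_assoc, mul_assoc (N ^ (m - 1) * B)]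
        _ = 0 := by
          rw [Finset.sum_add_distrib, ← Finset.mul_sum, ← Finset.mul_sum, hsum0, hsum1, mul_zero,
            mul_zero, add_zero]
    have h7 : N ^ (m - 1) = c • N ^ (m - 2) := by
      calc N ^ (m - 1) = N ^ (m - 2) * N := by rw [← pow_succ, show m - 2 + 1 = m - 1 by omega]
        _ = N ^ (m - 2) * (c • 1 + ∑ i ∈ Finset.range p, y ^ i * B * y ^ (p - i)) := by rw [← hB]
        _ = _ := by rw [mul_add, key, add_zero, mul_smul_comm, mul_one]
    have h8 : c • N ^ (m - 1) = 0 := by
      calc c • N ^ (m - 1) = N * (c • N ^ (m - 2)) := by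
            rw [mul_smul_comm, ← pow_succ', show m - 2 + 1 = m - 1 by omega]
        _ = N * N ^ (m - 1) := by rw [h7]
        _ = 0 := by rw [← pow_succ', Nat.sub_add_cancel (by omega : 1 ≤ m), hNm]
    rcases smul_eq_zero.mp h8 with h9 | h9
    · exact hNm1 (by rw [h7, h9, zero_smul])
    · exact hNm1 h9
  · -- `y` has smaller order than `N + 1`
    have hbpos : finrank k (LinearMap.ker (N ^ (P - 1))) = P - 1 := by
      refine le_antisymm (hup _) (hlow _ ?_)
      exact hzero' (by omega) hne
    have hne2 : N ^ (P * (p - 1)) ≠ 0 := fun h0 => by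
      rw [h0, LinearMap.range_zero, finrank_bot] at hb
      omega
    have h3 := LinearMap.finrank_range_add_finrank_ker (N ^ (P * (p - 1)))
    have h4 := hlow (P * (p - 1)) (hzero' (Nat.sub_le _ _) hne2)
    have h5 := hup (P * (p - 1))
    rw [hpP] at hm ⊢
    have : P * (p - 1) + P = P * p := by rw [Nat.mul_sub, Nat.mul_one]; omega
    omega

end Cfsg.Agent.Lib.HallHigmanB
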