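/-
An irreducible projective module of a nondegenerate commutator pairing, extended by a semiregular
operator of `p`-power order in characteristic `p`: full Jordan block or one short by one.
-/
import Mathlib
import Cfsg.Agent.Lib.HallHigmanB.Jordan
import Cfsg.Agent.Lib.FpfHeight.Extraspecial
import Cfsg.Agent.Lib.FpfHeight.OddPower

set_option autoImplicit false
set_option linter.unusedSectionVars false

namespace Cfsg.Agent.Lib.HallHigmanB

open Module Cfsg.Agent.Lib.FpfHeight

variable {k : Type*} [Field k] [IsAlgClosed k] {Q : Type*} [Group Q] [Finite Q]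
  {R : Subgroup Q} [R.Normal] {μ : R →* k}
variable {M : Type*} [AddCommGroup M] [Module k M] [FiniteDimensional k M]

/-- An endomorphism commuting with an irreducible representation is a scalar. -/
theorem exists_scalar [Nontrivial M] {ρ : Q →* Module.End k M} (hirr : Extraspecial.IsIrred ρ)
    {f : Module.End k M} (hf : ∀ u, Commute f (ρ u)) : ∃ c : k, f = c • 1 := by
  obtain ⟨c, hc⟩ := Module.End.exists_eigenvalue f
  refine ⟨c, ?_⟩
  rcases hirr (Module.End.eigenspace f c) (fun u w hw => by
    rw [Module.End.mem_eigenspace_iff] at hw ⊢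
    rw [← Module.End.mul_apply, (hf u).eq, Module.End.mul_apply, hw, map_smul]) with h | h
  · exact absurd h (Module.End.hasEigenvalue_iff.mp hc)
  · refine LinearMap.ext fun v => ?_
    have hv : v ∈ Module.End.eigenspace f c := h ▸ Submodule.mem_top
    simpa [Module.End.mem_eigenspace_iff] using hv

variable {p : ℕ} [hp : Fact p.Prime] [CharP k p]

/-- The centraliser of a semiregular operator of order `p` consists of scalars and traces. -/
theorem centraliserTrace_of_semireg [Nontrivial M] (S : Extraspecial.Setup R 1 μ 1)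
    {ρ : Q →* Module.End k M} (hρ : Extraspecial.IsScalar μ ρ) (hirr : Extraspecial.IsIrred ρ)
    (δ : MulAut Q) (hδR : ∀ r ∈ R, δ r ∈ R) (hδp : δ ^ p = 1)
    (hsemi : ∀ i, 0 < i → i < p → ∀ u : Q, u⁻¹ * (δ ^ i) u ∈ R → u ∈ R)
    (y : Module.End k M) (hyp : y ^ p = 1) (hy : ∀ u, y * ρ u = ρ (δ u) * y) :
    CentraliserTrace p y := by
  classical
  haveI := Fintype.ofFinite (Q ⧸ R)
  -- the induced permutation of the classes
  let g : Q ⧸ R → Q ⧸ R := fun c => ((δ c.out : Q) : Q ⧸ R)
  have hmk : ∀ (i : ℕ) (u : Q), g^[i] (u : Q ⧸ R) = (((δ ^ i) u : Q) : Q ⧸ R) := by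
    intro i
    induction i with
    | zero => intro u; rfl
    | succ i ih =>
      intro u
      rw [Function.iterate_succ_apply', ih, pow_succ', MulAut.mul_apply]
      obtain ⟨r, hr⟩ := QuotientGroup.mk_out_eq_mul R ((δ ^ i) u)
      show ((δ ((((δ ^ i) u : Q) : Q ⧸ R).out) : Q) : Q ⧸ R) = _
      rw [hr, map_mul, QuotientGroup.eq, mul_inv_rev, inv_mul_cancel_right]
      exact inv_mem (hδR _ r.2)
  have hgp : ∀ c, g^[p] c = c := fun c => by
    induction c using QuotientGroup.induction_on with
    | H u => rw [hmk, hδp]; rfl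
  have hfree : ∀ i, 0 < i → i < p → ∀ c, g^[i] c = c → c = 1 := by
    intro i hi hip c
    induction c using QuotientGroup.induction_on with
    | H u =>
      intro h
      rw [hmk, eq_comm, QuotientGroup.eq] at h
      exact (QuotientGroup.eq_one_iff u).mpr (hsemi i hi hip u h)
  have hone : g 1 = 1 := by
    have := hmk 1 (1 : Q)
    simpa using this
  have honei : ∀ i, g^[i] 1 = 1 := fun i => Function.iterate_fixed hone i
  have hmod : ∀ i c, g^[i] c = g^[i % p] c := fun i c => by
    conv_lhs => rw [← Nat.mod_add_div i p, Function.iterate_add_apply, Function.iterate_mul]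
    rw [Function.iterate_fixed (hgp c)]
  intro A hA
  obtain ⟨a, ha⟩ := S.combo_surjective hρ hirr A
  let term : Q ⧸ R → Module.End k M := fun c => a c • ρ c.out
  have hyc : ∀ (i : ℕ), i ≤ p → ∀ u, y ^ i * ρ u * y ^ (p - i) = ρ ((δ ^ i) u) := fun i hi u => by
    rw [OddPower.pow_semiconj hy, mul_assoc, ← pow_add, Nat.add_sub_cancel' hi, hyp, mul_one]
  -- `y` permutes the terms
  have hterm : ∀ c, y * term c * y ^ (p - 1) = term (g c) := by
    have hex : ∀ c : Q ⧸ R, ∃ t : k, ρ (δ c.out) = t • ρ (g c).out := fun c => by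
      obtain ⟨t, -, ht⟩ := S.rho_eq_smul hρ (δ c.out)
      exact ⟨t, ht⟩
    choose t ht using hex
    have hbij : Function.Bijective g :=
      ⟨fun c d h => by
        rw [← hgp c, ← hgp d, show p = p - 1 + 1 by have := hp.out.pos; omega,
          Function.iterate_succ_apply, Function.iterate_succ_apply, h],
      fun c => ⟨g^[p - 1] c, by
        rw [← Function.iterate_succ_apply' g (p - 1),
          show (p - 1).succ = p by have := hp.out.pos; omega, hgp]⟩⟩
    let e := Equiv.ofBijective g hbij
    let a' : Q ⧸ R → k := fun d => a (e.symm d) * t (e.symm d)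
    have h1 : ∀ c, y * term c * y ^ (p - 1) = a' (g c) • ρ (g c).out := fun c => by
      have h2 := hyc 1 hp.out.pos c.out
      rw [pow_one, pow_one] at h2
      show y * (a c • ρ c.out) * y ^ (p - 1) = _
      rw [mul_smul_comm, smul_mul_assoc, h2, ht, smul_smul]
      show _ = (a (e.symm (e c)) * t (e.symm (e c))) • _
      rw [Equiv.symm_apply_apply]
    have h3 : Extraspecial.combo R ρ a' = Extraspecial.combo R ρ a := by
      have h4 : A = y * A * y ^ (p - 1) := by
        rw [← hA.eq, mul_assoc, ← pow_succ', Nat.sub_add_cancel hp.out.pos, hyp, mul_one]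
      rw [ha]
      conv_rhs => rw [h4, ← ha]
      rw [Extraspecial.combo_apply, Extraspecial.combo_apply, Finset.mul_sum, Finset.sum_mul]
      exact (Fintype.sum_bijective g hbij _ _ h1).symm
    have h5 := S.combo_injective hρ h3
    intro c
    rw [h1, h5]
  have htermi : ∀ i, i ≤ p → ∀ c, y ^ i * term c * y ^ (p - i) = term (g^[i] c) := by
    intro i
    induction i with
    | zero => intro _ c; simp [hyp]
    | succ i ih =>
      intro hi c
      rw [Function.iterate_succ_apply', ← hterm, ← ih (by omega)]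
      have : y ^ (p - i) * y ^ (p - 1) = y ^ (p - (i + 1)) := by
        rw [← pow_add, show p - i + (p - 1) = p - (i + 1) + p by omega, pow_add, hyp, mul_one]
      rw [pow_succ', ← this]
      simp only [mul_assoc]
  -- representatives of the nontrivial orbits
  let ix := Fintype.equivFin (Q ⧸ R)
  let R0 : Finset (Q ⧸ R) :=
    Finset.univ.filter fun c => c ≠ 1 ∧ ∀ i, i < p → ix c ≤ ix (g^[i] c)
  refine ⟨a 1 * μ ⟨((1 : Q ⧸ R).out), (QuotientGroup.eq_one_iff _).mp (QuotientGroup.out_eq' _)⟩,
    ∑ c ∈ R0, term c, ?_⟩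
  have hsum : ∑ i ∈ Finset.range p, y ^ i * (∑ c ∈ R0, term c) * y ^ (p - i) =
      ∑ c ∈ Finset.univ.erase (1 : Q ⧸ R), term c := by
    calc _ = ∑ i ∈ Finset.range p, ∑ c ∈ R0, term (g^[i] c) :=
          Finset.sum_congr rfl fun i hi => by
            rw [Finset.mul_sum, Finset.sum_mul]
            exact Finset.sum_congr rfl fun c _ => htermi i (Finset.mem_range.mp hi).le c
      _ = ∑ x ∈ R0 ×ˢ Finset.range p, term (g^[x.2] x.1) := by
          rw [Finset.sum_comm, Finset.sum_product]
      _ = _ := by
          refine Finset.sum_bij (fun x _ => g^[x.2] x.1) ?_ ?_ ?_ (fun _ _ => rfl)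
          · rintro ⟨c, i⟩ hx
            simp only [Finset.mem_product, Finset.mem_range, R0, Finset.mem_filter,
              Finset.mem_univ, true_and] at hx
            refine Finset.mem_erase.mpr ⟨fun h => hx.1.1 ?_, Finset.mem_univ _⟩
            rw [← hgp c, show p = p - i + i by omega, Function.iterate_add_apply, h, honei]
          · rintro ⟨c, i⟩ hx ⟨d, j⟩ hy' h
            simp only [Finset.mem_product, Finset.mem_range, R0, Finset.mem_filter,
              Finset.mem_univ, true_and] at hx hy'
            dsimp only at h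
            have hcd : c = d := by
              have e1 : c = g^[(p - i + j) % p] d := by
                rw [← hmod, Function.iterate_add_apply, ← h, ← Function.iterate_add_apply,
                  Nat.sub_add_cancel hx.2.le, hgp]
              have e2 : d = g^[(p - j + i) % p] c := by
                rw [← hmod, Function.iterate_add_apply, h, ← Function.iterate_add_apply,
                  Nat.sub_add_cancel hy'.2.le, hgp]
              have h1 := hx.1.2 _ (Nat.mod_lt (p - j + i) hp.out.pos)
              have h2 := hy'.1.2 _ (Nat.mod_lt (p - i + j) hp.out.pos)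
              rw [← e2] at h1
              rw [← e1] at h2
              exact ix.injective (le_antisymm h1 h2)
            subst hcd
            refine Prod.ext rfl ?_
            by_contra hne
            dsimp only at hne
            rcases Nat.lt_or_gt_of_ne hne with hlt | hlt
            · refine hx.1.1 (hfree (j - i) (by omega) (by omega) c ?_)
              have h3 := congrArg (g^[p - i]) h
              rwa [← Function.iterate_add_apply, ← Function.iterate_add_apply,
                Nat.sub_add_cancel hx.2.le, hgp, show p - i + j = p + (j - i) by omega,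
                Function.iterate_add_apply, hgp, eq_comm] at h3
            · refine hx.1.1 (hfree (i - j) (by omega) (by omega) c ?_)
              have h3 := congrArg (g^[p - j]) h
              rwa [← Function.iterate_add_apply, ← Function.iterate_add_apply,
                Nat.sub_add_cancel hy'.2.le, hgp, show p - j + i = p + (i - j) by omega,
                Function.iterate_add_apply, hgp] at h3
          · intro d hd
            obtain ⟨i, hi, hmin⟩ := Finset.exists_min_image (Finset.range p)
              (fun i => ix (g^[i] d)) ⟨0, Finset.mem_range.mpr hp.out.pos⟩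
            rw [Finset.mem_range] at hi
            have hback : g^[(p - i) % p] (g^[i] d) = d := by
              rw [← hmod, ← Function.iterate_add_apply, Nat.sub_add_cancel hi.le, hgp]
            refine ⟨(g^[i] d, (p - i) % p), ?_, hback⟩
            simp only [Finset.mem_product, Finset.mem_range, R0, Finset.mem_filter, Finset.mem_univ,
              true_and]
            refine ⟨⟨fun h => (Finset.mem_erase.mp hd).1 ?_, fun m hm => ?_⟩, Nat.mod_lt _ hp.out.pos⟩
            · rw [← hback, h, honei]
            · rw [← Function.iterate_add_apply, hmod (m + i)]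
              exact hmin _ (Finset.mem_range.mpr (Nat.mod_lt _ hp.out.pos))
  rw [hsum, ← ha, Extraspecial.combo_apply, ← Finset.add_sum_erase _ _ (Finset.mem_univ (1 : Q ⧸ R))]
  congr 1
  rw [mul_smul, ← hρ]

/-- The dichotomy on an irreducible module. -/
theorem block_dichotomy [Nontrivial M] {q : ℕ} [Fact q.Prime] (hQ : IsPGroup q Q)
    (S : Extraspecial.Setup R 1 μ 1)
    {ρ : Q →* Module.End k M} (hρ : Extraspecial.IsScalar μ ρ) (hirr : Extraspecial.IsIrred ρ)
    {e : ℕ} (γ : MulAut Q) (hγR : ∀ r ∈ R, γ r ∈ R) (hγ : γ ^ p ^ (e + 1) = 1)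
    (hsemi : ∀ i, 0 < i → i < p ^ (e + 1) → ∀ u : Q, u⁻¹ * (γ ^ i) u ∈ R → u ∈ R)
    (X : Module.End k M) (hX : X ^ p ^ (e + 1) = 1) (hXρ : ∀ u, X * ρ u = ρ (γ u) * X) :
    (X - 1) ^ (p ^ (e + 1) - 1) ≠ 0 ∨
      ∃ d, 1 ≤ d ∧ q ^ d = p ^ (e + 1) - 1 ∧ (X - 1) ^ (p ^ (e + 1) - 2) ≠ 0 ∧
        Nat.card (Q ⧸ R) = q ^ d * q ^ d := by
  classical
  haveI := Fintype.ofFinite (Q ⧸ R)
  by_cases h0 : (X - 1) ^ (p ^ (e + 1) - 1) ≠ 0
  · exact Or.inl h0
  push Not at h0
  have hPe : p ^ e * p = p ^ (e + 1) := (pow_succ p e).symm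
  have hlt : ∀ i, i < p → p ^ e * i < p ^ (e + 1) := fun i hi =>
    hPe ▸ (Nat.mul_lt_mul_left (pow_pos hp.out.pos e)).mpr hi
  set y := X ^ p ^ e with hy_def
  set δ := γ ^ p ^ e with hδ_def
  have hy : ∀ u, y * ρ u = ρ (δ u) * y := OddPower.pow_semiconj hXρ _
  have hyp : y ^ p = 1 := by rw [hy_def, ← pow_mul, hPe, hX]
  have hδR : ∀ r ∈ R, δ r ∈ R := OddPower.pow_invariant γ hγR _
  have hne : (X - 1) ^ p ^ e ≠ 0 := by
    intro h
    rw [sub_one_pow_char_pow, sub_eq_zero, ← hy_def] at h
    obtain ⟨u, hu⟩ := (Subgroup.eq_top_iff' R).not.mp S.ne_top |> not_forall.mp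
    refine hu (hsemi (p ^ e) (pow_pos hp.out.pos e) (by simpa using hlt 1 hp.out.one_lt) u ?_)
    have h1 := hy u
    rw [h, one_mul, mul_one] at h1
    obtain ⟨t1, ht1, e1⟩ := S.rho_eq_smul hρ (δ u)
    obtain ⟨t2, ht2, e2⟩ := S.rho_eq_smul hρ u
    have h2 : Extraspecial.combo R ρ (Pi.single ((δ u : Q) : Q ⧸ R) t1) =
        Extraspecial.combo R ρ (Pi.single ((u : Q) : Q ⧸ R) t2) := by
      simp only [Extraspecial.combo_apply, Pi.single_apply, ite_smul, zero_smul, Finset.sum_ite_eq',
        Finset.mem_univ, if_true]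
      rw [← e1, ← e2, h1]
    have h3 := congrFun (S.combo_injective hρ h2) ((δ u : Q) : Q ⧸ R)
    rw [Pi.single_eq_same] at h3
    have h4 : ((δ u : Q) : Q ⧸ R) = (u : Q ⧸ R) := by
      by_contra hne'
      rw [Pi.single_eq_of_ne hne'] at h3
      exact ht1 h3
    exact QuotientGroup.eq.mp h4.symm
  have hC : CentraliserTrace p ((X - 1 + 1) ^ p ^ e) := by
    rw [sub_add_cancel]
    refine centraliserTrace_of_semireg S hρ hirr δ hδR ?_ ?_ y hyp hy
    · rw [hδ_def, ← pow_mul, hPe, hγ]
    · intro i hi hip u hu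
      rw [hδ_def, ← pow_mul] at hu
      exact hsemi _ (Nat.mul_pos (pow_pos hp.out.pos e) hi) (hlt i hip) u hu
  obtain ⟨hm, hlast⟩ := block_of_centraliserTrace h0 hne hC
  have hcard : Nat.card (Q ⧸ R) = finrank k M * finrank k M := by
    have e1 := LinearEquiv.finrank_eq (LinearEquiv.ofBijective (Extraspecial.combo R ρ)
      ⟨S.combo_injective hρ, S.combo_surjective hρ hirr⟩)
    rw [Module.finrank_fintype_fun_eq_card, Module.finrank_linearMap] at e1
    rw [Nat.card_eq_fintype_card, e1]
  obtain ⟨j, hj⟩ := IsPGroup.iff_card.mp (hQ.to_quotient R)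
  rw [hcard] at hj
  obtain ⟨d, -, hd⟩ := (Nat.dvd_prime_pow (Fact.out : q.Prime)).mp (hj ▸ Dvd.intro _ rfl :
    finrank k M ∣ q ^ j)
  refine Or.inr ⟨d, ?_, by rw [← hd, hm], hlast, by rw [hcard, hd]⟩
  by_contra hd0
  have hd0' : d = 0 := by omega
  rw [hd0', pow_zero] at hd
  refine S.ne_top (Subgroup.index_eq_one.mp ?_)
  rw [Subgroup.index_eq_card, hcard, hd, one_mul]

end Cfsg.Agent.Lib.HallHigmanB
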