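/-
The `q`-group core of Theorem B of Hall and Higman.
-/
import Mathlib
import Cfsg.Agent.Lib.HallHigmanB.Irred

set_option autoImplicit false
set_option linter.unusedSectionVars false
set_option linter.style.haveILetI false

namespace Cfsg.Agent.Lib.HallHigmanB

open Module Cfsg.Agent.Lib.FpfHeight

variable {k : Type*} [Field k] [IsAlgClosed k]

theorem sum_char_eq_zero {Z : Type*} [Group Z] [Fintype Z] (χ : Z →* k) {v : Z} (hv : χ v ≠ 1) :
    ∑ z, χ z = 0 := by
  have h : χ v * ∑ z, χ z = ∑ z, χ z := by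
    rw [Finset.mul_sum]
    exact Fintype.sum_bijective (v * ·) (Group.mulLeft_bijective v) _ _ fun z => (map_mul χ v z).symm
  by_contra hne
  exact hv ((mul_eq_right₀ hne).mp h)

variable {M : Type*} [AddCommGroup M] [Module k M]

/-- Twisted character sum as an operator. -/
noncomputable def twist {Z : Type*} [Group Z] [Fintype Z] (f : Z →* Module.End k M) (χ : Z →* k) :
    Module.End k M :=
  ∑ z, χ z⁻¹ • f z

theorem twist_apply_eigen {Z : Type*} [Group Z] [Fintype Z] (f : Z →* Module.End k M)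
    (χ : Z →* k) {v : M} (h : ∀ z, f z v = χ z • v) :
    twist f χ v = (Nat.card Z : k) • v := by
  simp only [twist, LinearMap.sum_apply, LinearMap.smul_apply, h, smul_smul, ← map_mul,
    inv_mul_cancel, map_one, one_smul, Finset.sum_const, Finset.card_univ, Nat.card_eq_fintype_card]
  rw [Nat.cast_smul_eq_nsmul]

theorem twist_apply_other {Z : Type*} [Group Z] [Fintype Z] (f : Z →* Module.End k M)
    (χ : Z →* k) (σ : MulAut Z) {v : M} (h : ∀ z, f (σ z) v = χ z • v) {z₀ : Z}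
    (hz : χ (σ z₀) ≠ χ z₀) : twist f χ v = 0 := by
  have h1 : twist f χ v = (∑ z, (χ ((σ z)⁻¹) * χ z)) • v := by
    simp only [twist, LinearMap.sum_apply, LinearMap.smul_apply, Finset.sum_smul]
    exact (Fintype.sum_bijective σ σ.bijective _ _ fun z => by rw [h, smul_smul]).symm
  rw [h1]
  let ψ : Z →* k :=
    { toFun := fun z => χ ((σ z)⁻¹) * χ z
      map_one' := by simp
      map_mul' := fun a b => by
        rw [map_mul, mul_inv_rev, map_mul, map_mul]
        ring }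
  have h2 : ψ z₀ ≠ 1 := by
    intro he
    apply hz
    have h3 : χ (σ z₀) * (χ ((σ z₀)⁻¹) * χ z₀) = χ (σ z₀) * 1 := congrArg (χ (σ z₀) * ·) he
    rw [← mul_assoc, ← map_mul, mul_inv_cancel, map_one, one_mul, mul_one] at h3
    exact h3.symm
  rw [show (∑ z, (χ ((σ z)⁻¹) * χ z)) = ∑ z, ψ z from rfl, sum_char_eq_zero ψ h2, zero_smul]

theorem natCast_card_ne_zero {p q : ℕ} [Fact p.Prime] [Fact q.Prime] [CharP k p] (hqp : q ≠ p)
    {Z : Type*} [Group Z] [Finite Z] (hZ : IsPGroup q Z) : (Nat.card Z : k) ≠ 0 := by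
  obtain ⟨a, ha⟩ := IsPGroup.iff_card.mp hZ
  intro h
  rw [CharP.cast_eq_zero_iff k p, ha] at h
  exact hqp ((Nat.prime_dvd_prime_iff_eq Fact.out Fact.out).mp
    ((Fact.out : p.Prime).dvd_of_dvd_pow h)).symm

variable [FiniteDimensional k M] {Q : Type*} [Group Q] [Finite Q] {p : ℕ} [hp : Fact p.Prime]
  [CharP k p]

/-- From a module with scalar radical to the dichotomy for an irreducible submodule. -/
theorem exists_dichotomy {R : Subgroup Q} [R.Normal] {ν : R →* k} {q : ℕ} [Fact q.Prime]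
    (hQ : IsPGroup q Q) (S : Extraspecial.Setup R 1 ν 1)
    {e : ℕ} (γ : MulAut Q) (hγR : ∀ r ∈ R, γ r ∈ R)
    (hν : ∀ r : R, ν ⟨γ r, hγR r r.2⟩ = ν r) (hγ : γ ^ p ^ (e + 1) = 1)
    (hsemi : ∀ i, 0 < i → i < p ^ (e + 1) → ∀ u : Q, u⁻¹ * (γ ^ i) u ∈ R → u ∈ R)
    (ρ : Q →* Module.End k M) (X : Module.End k M) (hX : X ^ p ^ (e + 1) = 1)
    (hXρ : ∀ u, X * ρ u = ρ (γ u) * X) (V : Submodule k M) (hV : V ≠ ⊥)
    (hVQ : ∀ u, ∀ v ∈ V, ρ u v ∈ V) (hVX : ∀ v ∈ V, X v ∈ V)
    (hVR : ∀ v ∈ V, ∀ r : R, ρ r v = ν r • v) :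
    ∃ v ∈ V, ((X - 1) ^ (p ^ (e + 1) - 1)) v ≠ 0 ∨
      ∃ d, 1 ≤ d ∧ q ^ d = p ^ (e + 1) - 1 ∧ ((X - 1) ^ (p ^ (e + 1) - 2)) v ≠ 0 ∧
        Nat.card (Q ⧸ R) = q ^ d * q ^ d := by
  classical
  obtain ⟨W, ⟨hWV, hW0, hWQ, hWX⟩, hWmin⟩ := exists_minimal_of_wellFoundedLT
    (fun U : Submodule k M => U ≤ V ∧ U ≠ ⊥ ∧ (∀ u, ∀ v ∈ U, ρ u v ∈ U) ∧ ∀ v ∈ U, X v ∈ U)
    ⟨V, le_rfl, hV, hVQ, hVX⟩
  haveI : Nontrivial W := Submodule.nontrivial_iff_ne_bot.mpr hW0
  set ρW := OddPower.resRep ρ W hWQ with hρW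
  set XW : Module.End k W := X.restrict hWX with hXWdef
  have hρWs : Extraspecial.IsScalar ν ρW := fun r =>
    LinearMap.ext fun v => Subtype.ext (hVR _ (hWV v.2) r)
  have hXW : ∀ u, XW * ρW u = ρW (γ u) * XW := fun u =>
    LinearMap.ext fun v => Subtype.ext (LinearMap.congr_fun (hXρ u) (v : M))
  have hXWpow : ∀ (i : ℕ) (v : W), ((XW ^ i) v : M) = (X ^ i) (v : M) := by
    intro i
    induction i with
    | zero => intro v; rfl
    | succ i ih =>
      intro v
      rw [pow_succ', pow_succ', Module.End.mul_apply, Module.End.mul_apply, ← ih]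
      rfl
  have hXW1 : XW ^ p ^ (e + 1) = 1 :=
    LinearMap.ext fun v => Subtype.ext (by rw [hXWpow, hX]; rfl)
  -- an irreducible piece
  obtain ⟨U, ⟨hU0, hUQ⟩, hUmin⟩ := exists_minimal_of_wellFoundedLT
    (fun U : Submodule k W => U ≠ ⊥ ∧ ∀ u, ∀ v ∈ U, ρW u v ∈ U) ⟨⊤, top_ne_bot, fun _ _ _ => trivial⟩
  haveI : Nontrivial U := Submodule.nontrivial_iff_ne_bot.mpr hU0
  set ρU := OddPower.resRep ρW U hUQ
  have hρUs : Extraspecial.IsScalar ν ρU := fun r =>
    LinearMap.ext fun v => Subtype.ext (LinearMap.congr_fun (hρWs r) (v : W))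
  have hirr : Extraspecial.IsIrred ρU := by
    intro U' hU'
    by_cases h : U' = ⊥
    · exact Or.inl h
    refine Or.inr (eq_top_iff.mpr fun v _ => ?_)
    have hle := hUmin (y := U'.map U.subtype)
      ⟨fun h0 => h (Submodule.map_injective_of_injective U.subtype_injective
        (h0.trans (Submodule.map_bot _).symm)), ?_⟩
      (Submodule.map_subtype_le U U')
    · obtain ⟨w, hw, hwv⟩ := hle v.2
      exact Subtype.ext hwv ▸ hw
    · rintro u _ ⟨w, hw, rfl⟩
      exact ⟨ρU u w, hU' u w hw, rfl⟩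
  -- the twisted module is the same
  obtain ⟨T, hT0, hT⟩ := S.exists_intertwiner (ρ₁ := ρU) (ρ₂ := ρU.comp γ.toMonoidHom) hρUs
    (fun r => (hρUs ⟨γ r, hγR r r.2⟩).trans (by rw [hν r]))
  have hTinj : Function.Injective T := by
    rw [← LinearMap.ker_eq_bot]
    refine (hirr (LinearMap.ker T) fun u v hv => ?_).resolve_right fun h =>
      hT0 (LinearMap.ker_eq_top.mp h)
    rw [LinearMap.mem_ker] at hv ⊢
    have := LinearMap.congr_fun (hT u) v
    rw [LinearMap.comp_apply, LinearMap.comp_apply, hv, map_zero] at this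
    exact this.symm
  have hTρ : ∀ u, T * ρU u = ρU (γ u) * T := fun u => (hT u).symm
  obtain ⟨c, hc⟩ := exists_scalar hirr (f := T ^ p ^ (e + 1)) fun u => by
    rw [Commute, SemiconjBy, OddPower.pow_semiconj hTρ, hγ]
    rfl
  have hc0 : c ≠ 0 := by
    intro h0
    obtain ⟨v, hv⟩ := exists_ne (0 : U)
    have h1 : Function.Injective ((T ^ p ^ (e + 1) : Module.End k U)) := by
      rw [Module.End.coe_pow]
      exact hTinj.iterate _
    exact hv (h1 (by rw [hc, h0, zero_smul, LinearMap.zero_apply, map_zero]))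
  obtain ⟨d₀, hd₀⟩ := IsAlgClosed.exists_pow_nat_eq c⁻¹ (pow_pos hp.out.pos (e + 1))
  set T₁ : Module.End k U := d₀ • T with hT₁def
  have hT₁1 : T₁ ^ p ^ (e + 1) = 1 := by
    rw [hT₁def, smul_pow, hd₀, hc, smul_smul, inv_mul_cancel₀ hc0, one_smul]
  have hT₁ : ∀ u, T₁ * ρU u = ρU (γ u) * T₁ := fun u => by
    rw [hT₁def, smul_mul_assoc, mul_smul_comm, hTρ]
  set T₂ := T₁ ^ (p ^ (e + 1) - 1) with hT₂def
  have hT₂1 : T₂ ^ p ^ (e + 1) = 1 := by rw [hT₂def, ← pow_mul, mul_comm, pow_mul, hT₁1, one_pow]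
  have hT₁₂ : T₂ * T₁ = 1 := by
    rw [hT₂def, ← pow_succ, Nat.sub_add_cancel (Nat.one_le_pow _ _ hp.out.pos), hT₁1]
  have hγinv : ∀ u, γ ((γ ^ (p ^ (e + 1) - 1)) u) = u := fun u => by
    rw [← MulAut.mul_apply, ← pow_succ', Nat.sub_add_cancel (Nat.one_le_pow _ _ hp.out.pos), hγ]
    rfl
  -- an equivariant map fixed by the twisted action
  let Φ : Module.End k (U →ₗ[k] W) :=
    { toFun := fun φ => XW.comp (φ.comp T₂)
      map_add' := fun φ ψ => by simp [LinearMap.comp_add, LinearMap.add_comp]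
      map_smul' := fun a φ => by simp [LinearMap.comp_smul, LinearMap.smul_comp] }
  have hΦpow : ∀ (i : ℕ) (φ : U →ₗ[k] W), (Φ ^ i) φ = (XW ^ i).comp (φ.comp (T₂ ^ i)) := by
    intro i
    induction i with
    | zero => intro φ; rfl
    | succ i ih =>
      intro φ
      rw [pow_succ', Module.End.mul_apply, ih, pow_succ' XW, pow_succ T₂]
      rfl
  have hΦ1 : Φ ^ p ^ (e + 1) = 1 := LinearMap.ext fun φ => by
    rw [hΦpow, hXW1, hT₂1]; rfl
  let Hom : Submodule k (U →ₗ[k] W) :=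
    { carrier := {φ | ∀ u, (ρW u).comp φ = φ.comp (ρU u)}
      add_mem' := fun {φ ψ} h1 h2 u => by
        rw [LinearMap.comp_add, LinearMap.add_comp, h1 u, h2 u]
      zero_mem' := fun u => by simp
      smul_mem' := fun a φ h u => by rw [LinearMap.comp_smul, LinearMap.smul_comp, h u] }
  have hΦH : ∀ φ ∈ Hom, (Φ - 1) φ ∈ Hom := by
    intro φ hφ
    refine Hom.sub_mem (fun u => LinearMap.ext fun v => ?_) hφ
    show ρW u (XW (φ (T₂ v))) = XW (φ (T₂ (ρU u v)))
    obtain ⟨a, rfl⟩ : ∃ a, u = γ a := ⟨_, (hγinv u).symm⟩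
    have h1 : T₂ (ρU (γ a) v) = ρU a (T₂ v) := by
      have h2 := LinearMap.congr_fun
        (OddPower.pow_semiconj hT₁ (p ^ (e + 1) - 1) (γ a)) v
      rw [Module.End.mul_apply, Module.End.mul_apply] at h2
      rw [hT₂def, h2]
      congr 2
      rw [← MulAut.mul_apply, ← pow_succ, Nat.sub_add_cancel (Nat.one_le_pow _ _ hp.out.pos), hγ]
      rfl
    rw [h1, ← Module.End.mul_apply (ρW (γ a)), ← hXW, Module.End.mul_apply]
    exact congrArg XW (LinearMap.congr_fun (hφ a) (T₂ v))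
  obtain ⟨φ, hφH, hφ0, hφfix⟩ : ∃ φ ∈ Hom, φ ≠ 0 ∧ (Φ - 1) φ = 0 := by
    have hN : (Φ - 1) ^ p ^ (e + 1) = (0 : Module.End k (U →ₗ[k] W)) := by
      rw [sub_one_pow_char_pow, hΦ1]
      exact sub_self (1 : Module.End k (U →ₗ[k] W))
    set N : Module.End k (U →ₗ[k] W) := Φ - 1
    have hpow : (N ^ p ^ (e + 1)) U.subtype = 0 := by rw [hN]; rfl
    have hsub : U.subtype ∈ Hom := fun u => LinearMap.ext fun v => rfl
    have hall : ∀ j : ℕ, (N ^ j) U.subtype ∈ Hom := by
      intro j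
      induction j with
      | zero => exact hsub
      | succ j ih => rw [pow_succ', Module.End.mul_apply]; exact hΦH _ ih
    by_contra hc'
    push Not at hc'
    have hnz : ∀ j : ℕ, (N ^ j) U.subtype ≠ 0 := by
      intro j
      induction j with
      | zero =>
        rw [pow_zero, Module.End.one_apply]
        intro h
        obtain ⟨v, hv⟩ := exists_ne (0 : U)
        exact hv (Subtype.ext (LinearMap.congr_fun h v))
      | succ j ih =>
        rw [pow_succ', Module.End.mul_apply]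
        exact hc' _ (hall j) ih
    exact hnz _ hpow
  have hφX : XW.comp φ = φ.comp T₁ := by
    have h1 : XW.comp (φ.comp T₂) = φ := by
      rw [LinearMap.sub_apply, Module.End.one_apply, sub_eq_zero] at hφfix
      exact hφfix
    refine LinearMap.ext fun v => ?_
    have h2 := LinearMap.congr_fun h1 (T₁ v)
    rw [LinearMap.comp_apply, LinearMap.comp_apply, ← Module.End.mul_apply T₂, hT₁₂] at h2
    exact h2
  have hφinj : Function.Injective φ := by
    rw [← LinearMap.ker_eq_bot]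
    refine (hirr (LinearMap.ker φ) fun u v hv => ?_).resolve_right fun h =>
      hφ0 (LinearMap.ker_eq_top.mp h)
    rw [LinearMap.mem_ker] at hv ⊢
    rw [← LinearMap.comp_apply, ← hφH u, LinearMap.comp_apply, hv, map_zero]
  have hφsurj : Function.Surjective φ := by
    intro w
    have hle := hWmin (y := (LinearMap.range φ).map W.subtype) ⟨?_, ?_, ?_, ?_⟩
      (Submodule.map_subtype_le W _)
    · obtain ⟨z, ⟨v, rfl⟩, hzw⟩ := hle w.2
      exact ⟨v, Subtype.ext hzw⟩
    · exact (Submodule.map_subtype_le W _).trans hWV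
    · intro h0
      apply hφ0
      refine LinearMap.ext fun v => Subtype.ext ?_
      have : (φ v : M) ∈ (LinearMap.range φ).map W.subtype := ⟨φ v, ⟨v, rfl⟩, rfl⟩
      rw [h0] at this
      simpa using this
    · rintro u _ ⟨_, ⟨v, rfl⟩, rfl⟩
      exact ⟨ρW u (φ v), ⟨ρU u v, (LinearMap.congr_fun (hφH u) v).symm⟩, rfl⟩
    · rintro _ ⟨_, ⟨v, rfl⟩, rfl⟩
      exact ⟨XW (φ v), ⟨T₁ v, (LinearMap.congr_fun hφX v).symm⟩, rfl⟩
  have hirrW : Extraspecial.IsIrred ρW := by
    intro U' hU'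
    rcases hirr (U'.comap φ) (fun u v hv => by
      rw [Submodule.mem_comap] at hv ⊢
      rw [← LinearMap.comp_apply, ← hφH u, LinearMap.comp_apply]
      exact hU' u _ hv) with h | h
    · exact Or.inl (Submodule.comap_injective_of_surjective hφsurj
        (h.trans (LinearMap.ker_eq_bot.mpr hφinj).symm))
    · exact Or.inr (Submodule.comap_injective_of_surjective hφsurj
        (h.trans (Submodule.comap_top φ).symm))
  have hres : ∀ (j : ℕ), (XW - 1) ^ j ≠ 0 → ∃ v ∈ V, ((X - 1) ^ j) v ≠ 0 := by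
    intro j hj
    obtain ⟨v, hv⟩ : ∃ v : W, ((XW - 1) ^ j) v ≠ 0 := by
      by_contra hc'
      push Not at hc'
      exact hj (LinearMap.ext hc')
    refine ⟨v, hWV v.2, fun h0 => hv (Subtype.ext ?_)⟩
    have hpow : ∀ (i : ℕ) (w : W), (((XW - 1) ^ i) w : M) = ((X - 1) ^ i) (w : M) := by
      intro i
      induction i with
      | zero => intro w; rfl
      | succ i ih =>
        intro w
        rw [pow_succ', pow_succ', Module.End.mul_apply, Module.End.mul_apply, ← ih]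
        rfl
    rw [hpow, h0]
    rfl
  rcases block_dichotomy hQ S hρWs hirrW γ hγR hγ hsemi XW hXW1 hXW with h | ⟨d, h1, h2, h3, h4⟩
  · obtain ⟨v, hv, hv'⟩ := hres _ h
    exact ⟨v, hv, Or.inl hv'⟩
  · obtain ⟨v, hv, hv'⟩ := hres _ h3
    exact ⟨v, hv, Or.inr ⟨d, h1, h2, hv', h4⟩⟩

/-- Theorem B for a minimal `q`-group moved by the element of order `p`. -/
theorem core {q n : ℕ} [Fact q.Prime] (hqp : q ≠ p) (hQ : IsPGroup q Q) (β : MulAut Q)
    (hβ : β ^ p ^ (n + 1) = 1) (hβy : β ^ p ^ n ≠ 1)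
    (hmin : ∀ K : Subgroup Q, K ≠ ⊤ → (∀ u ∈ K, β u ∈ K) → ∀ u ∈ K, (β ^ p ^ n) u = u)
    (ρ : Q →* Module.End k M) (hρ : Function.Injective ρ) (X : Module.End k M)
    (hX : X ^ p ^ (n + 1) = 1) (hXρ : ∀ u, X * ρ u = ρ (β u) * X) :
    (X - 1) ^ (p ^ (n + 1) - 1) ≠ 0 ∨ ((∃ a b : Q, a * b ≠ b * a) ∧
      ∃ n₀ d, 1 ≤ n₀ ∧ n₀ ≤ n + 1 ∧ 1 ≤ d ∧ q ^ d = p ^ n₀ - 1 ∧
        ((∀ u : Q, (β ^ p ^ n) u = u → β u = u) → n₀ = n + 1) ∧
        (X - 1) ^ (p ^ (n + 1 - n₀) * (p ^ n₀ - 1) - 1) ≠ 0) := by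
  classical
  set y := β ^ p ^ n with hydef
  haveI := hQ.isNilpotent
  haveI : Nontrivial Q := by
    by_contra hc
    rw [not_nontrivial_iff_subsingleton] at hc
    exact hβy (MulEquiv.ext fun u => Subsingleton.elim _ _)
  have hyp : y ^ p = 1 := by rw [hydef, ← pow_mul, ← pow_succ, hβ]
  have hβcomm : ∀ u, β (y u) = y (β u) := fun u => by
    rw [← MulAut.mul_apply, ← MulAut.mul_apply, hydef, ← pow_succ', ← pow_succ]
  have hchar : ∀ (K : Subgroup Q) [K.Characteristic], ∀ u ∈ K, β u ∈ K := fun K hK u hu => by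
    have h := hK.fixed β
    rw [← h] at hu
    exact hu
  have hfix : ∀ {u c : Q}, y u = u * c → y c = c → y u = u := fun {u c} h1 h2 => by
    have h3 := OddPower.pow_apply_mul h1 h2 p
    rw [hyp] at h3
    have h4 : c ^ p = 1 := by simpa using h3.symm
    rw [h1, OddPower.eq_one_of_pow_eq_one hp.out hqp hQ h4, mul_one]
  -- `Q` is generated by the `u⁻¹ y u`
  have hgen : Subgroup.closure (Set.range fun u => u⁻¹ * y u) = ⊤ := by
    by_contra hne
    have hinv : ∀ a ∈ Subgroup.closure (Set.range fun u => u⁻¹ * y u),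
        β a ∈ Subgroup.closure (Set.range fun u => u⁻¹ * y u) := by
      refine fun a ha => ((Subgroup.closure_le
        ((Subgroup.closure (Set.range fun u => u⁻¹ * y u)).comap β.toMonoidHom)).mpr ?_) ha
      rintro _ ⟨u, rfl⟩
      exact Subgroup.subset_closure ⟨β u, by simp [map_mul, map_inv, hβcomm]⟩
    refine hβy (MulEquiv.ext fun u => ?_)
    exact hfix (c := u⁻¹ * y u) (mul_inv_cancel_left _ _).symm
      (hmin _ hne hinv _ (Subgroup.subset_closure ⟨u, rfl⟩))
  -- the derived group is fixed and central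
  have hDfix : ∀ c ∈ commutator Q, y c = c :=
    hmin _ (Group.IsSolvable.commutator_lt_top_of_nontrivial Q).ne (hchar _)
  have hcentral : ∀ c : Q, y c = c → c ∈ Subgroup.center Q := by
    intro c hc
    have hle : Subgroup.closure (Set.range fun u => u⁻¹ * y u) ≤
        Subgroup.centralizer ({c} : Set Q) := by
      rw [Subgroup.closure_le]
      rintro _ ⟨u, rfl⟩
      have hd : c * u * c⁻¹ * u⁻¹ ∈ commutator Q :=
        Subgroup.commutator_mem_commutator (Subgroup.mem_top c) (Subgroup.mem_top u)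
      have h1 := hDfix _ hd
      rw [map_mul, map_mul, map_mul, map_inv, map_inv, hc] at h1
      have h2 : c * y u * c⁻¹ = c * u * c⁻¹ * u⁻¹ * y u := by
        rw [← h1, inv_mul_cancel_right]
      rw [SetLike.mem_coe, Subgroup.mem_centralizer_singleton_iff]
      calc u⁻¹ * y u * c = (c * u * c⁻¹)⁻¹ * (c * y u * c⁻¹) * c := by
            rw [h2]
            group
        _ = c * (u⁻¹ * y u) := by group
    rw [Subgroup.mem_center_iff]
    intro g
    exact Subgroup.mem_centralizer_singleton_iff.mp (hle (hgen ▸ Subgroup.mem_top g))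
  set Z := Subgroup.center Q with hZdef
  have hDZ : ∀ c ∈ commutator Q, c ∈ Z := fun c hc => hcentral c (hDfix c hc)
  have hcomZ : ∀ u v : Q, u * v * u⁻¹ * v⁻¹ ∈ Z := fun u v =>
    hDZ _ (Subgroup.commutator_mem_commutator (Subgroup.mem_top u) (Subgroup.mem_top v))
  -- fixed cosets modulo a subgroup containing the centre
  have hmodR : ∀ (R : Subgroup Q) [R.Normal], Z ≤ R → (∀ r ∈ R, y r ∈ R) →
      ∀ u, u⁻¹ * y u ∈ R → u ∈ R := by
    intro R _ hZR hyR u hu
    let w : ℕ → Q := fun i => ((List.range i).map fun j => (y ^ j) u).prod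
    have hws : ∀ i, w (i + 1) = w i * (y ^ i) u := fun i => by
      simp [w, List.range_succ]
    have hwR : ∀ i, (w i : Q ⧸ R) = (u : Q ⧸ R) ^ i := by
      intro i
      induction i with
      | zero => simp [w]
      | succ i ih =>
        rw [hws, QuotientGroup.mk_mul, ih, pow_succ]
        congr 1
        exact (QuotientGroup.eq.mpr (OddPower.pow_inv_mul_mem y hyR hu i)).symm
    have hwA : ∀ i, Abelianization.of (y (w i)) * Abelianization.of u =
        Abelianization.of (w (i + 1)) := by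
      intro i
      induction i with
      | zero => simp [hws, w]
      | succ i ih =>
        rw [hws (i + 1), map_mul (Abelianization.of : Q →* _), ← ih, hws i, map_mul y,
          map_mul (Abelianization.of : Q →* _), ← MulAut.mul_apply, ← pow_succ']
        exact mul_right_comm _ _ _
    have hd : (w p)⁻¹ * y (w p) ∈ commutator Q := by
      rw [← Abelianization.ker_of, MonoidHom.mem_ker, map_mul, map_inv, inv_mul_eq_one]
      have h1 := hwA p
      rw [hws, map_mul, hyp] at h1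
      exact (mul_right_cancel h1).symm
    have hvR : w p ∈ R := hZR (hcentral _
      (hfix (c := (w p)⁻¹ * y (w p)) (mul_inv_cancel_left _ _).symm (hDfix _ hd)))
    have h2 := hwR p
    rw [(QuotientGroup.eq_one_iff _).mpr hvR] at h2
    exact (QuotientGroup.eq_one_iff u).mp
      (OddPower.eq_one_of_pow_eq_one hp.out hqp (hQ.to_quotient R) h2.symm)
  -- a nontrivial character of the centre
  haveI : Fintype Z := Fintype.ofFinite Z
  set ρZ := ρ.comp Z.subtype with hρZ
  haveI := hQ.center_nontrivial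
  obtain ⟨z₀, hz₀⟩ := exists_ne (1 : Z)
  have hcardZ : (Nat.card Z : k) ≠ 0 := natCast_card_ne_zero hqp (hQ.to_subgroup Z)
  have hρZcomm : ∀ a b, Commute (ρZ a) (ρZ b) := fun a b => by
    rw [Commute, SemiconjBy, ← map_mul, ← map_mul]
    exact congrArg ρZ (Subtype.ext (Subgroup.mem_center_iff.mp b.2 a))
  obtain ⟨w₀, μ, hw₀, hw₀0, hμw⟩ := EigenChar.exists_common_eigenvector ρZ hρZcomm
    (LinearMap.ker (twist ρZ 1)) (fun h => by
      have hsurj := LinearMap.surjective_of_injective (LinearMap.ker_eq_bot.mp h)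
      have h2 : ρZ z₀ * twist ρZ 1 = twist ρZ 1 := by
        simp only [twist, MonoidHom.one_apply, one_smul, Finset.mul_sum]
        exact Fintype.sum_bijective (z₀ * ·) (Group.mulLeft_bijective z₀) _ _
          fun z => (map_mul ρZ z₀ z).symm
      refine hz₀ (Subtype.ext (hρ ?_))
      show ρZ z₀ = ρ 1
      rw [map_one]
      refine LinearMap.ext fun v => ?_
      obtain ⟨v', rfl⟩ := hsurj v
      rw [← Module.End.mul_apply, h2, Module.End.one_apply])
    (fun a v hv => by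
      rw [LinearMap.mem_ker] at hv ⊢
      have hc : Commute (twist ρZ 1) (ρZ a) := Commute.sum_left _ _ _ fun z _ =>
        (hρZcomm z a).smul_left _
      rw [← Module.End.mul_apply, hc.eq, Module.End.mul_apply, hv, map_zero])
  obtain ⟨z₁, hz₁⟩ : ∃ z, μ z ≠ 1 := by
    by_contra hc
    push Not at hc
    have h1 := twist_apply_eigen ρZ (1 : Z →* k) (v := w₀) fun z => by rw [hμw, hc]; rfl
    rw [LinearMap.mem_ker.mp hw₀] at h1
    exact hw₀0 ((smul_eq_zero.mp h1.symm).resolve_left hcardZ)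
  -- the radical
  let χ : Q → Q → k := fun u v => μ ⟨_, hcomZ u v⟩
  have hχmul : ∀ a b v, χ (a * b) v = χ a v * χ b v := fun a b v => by
    show μ _ = μ _ * μ _
    rw [mul_comm (μ _) (μ _), ← map_mul]
    refine congrArg μ (Subtype.ext ?_)
    show a * b * v * (a * b)⁻¹ * v⁻¹ = (b * v * b⁻¹ * v⁻¹) * (a * v * a⁻¹ * v⁻¹)
    calc a * b * v * (a * b)⁻¹ * v⁻¹
        = a * (b * v * b⁻¹ * v⁻¹) * a⁻¹ * (a * v * a⁻¹ * v⁻¹) := by group
      _ = (b * v * b⁻¹ * v⁻¹) * (a * v * a⁻¹ * v⁻¹) := by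
        rw [Subgroup.mem_center_iff.mp (hcomZ b v) a]
        group
  have hχsymm : ∀ a b, χ a b * χ b a = 1 := fun a b => by
    show μ _ * μ _ = 1
    rw [← map_mul, ← map_one μ]
    refine congrArg μ (Subtype.ext ?_)
    show a * b * a⁻¹ * b⁻¹ * (b * a * b⁻¹ * a⁻¹) = 1
    group
  have hχZ : ∀ z ∈ Z, ∀ v, χ z v = 1 := fun z hz v => by
    show μ _ = 1
    rw [← map_one μ]
    refine congrArg μ (Subtype.ext ?_)
    show z * v * z⁻¹ * v⁻¹ = 1
    rw [← Subgroup.mem_center_iff.mp hz v, mul_inv_cancel_right, mul_inv_cancel]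
  let R : Subgroup Q :=
    { carrier := {u | ∀ v, χ u v = 1}
      mul_mem' := fun {a b} ha hb v => by rw [hχmul, ha, hb, one_mul]
      one_mem' := fun v => hχZ 1 (one_mem _) v
      inv_mem' := fun {a} ha v => by
        have := hχmul a⁻¹ a v
        rw [inv_mul_cancel, hχZ 1 (one_mem _) v, ha, mul_one] at this
        exact this.symm }
  have hZR : Z ≤ R := fun z hz v => hχZ z hz v
  haveI hRn : R.Normal := ⟨fun r hr g => by
    have := R.mul_mem (hZR (hcomZ g r)) hr
    rwa [inv_mul_cancel_right] at this⟩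
  haveI : Fintype R := Fintype.ofFinite R
  have hcardR : (Nat.card R : k) ≠ 0 := natCast_card_ne_zero hqp (hQ.to_subgroup R)
  -- the commutative action of the radical on the `μ`-space
  set ρR := ρ.comp R.subtype with hρR
  set Vμ := OddPower.eigSub ρZ μ with hVμ
  have hmemμ : w₀ ∈ Vμ := OddPower.mem_eigSub.mpr hμw
  have hswap : ∀ a b : Q, ∀ v ∈ Vμ, ρ a (ρ b v) = χ a b • ρ b (ρ a v) := by
    intro a b v hv
    rw [← Module.End.mul_apply, ← map_mul, ← Module.End.mul_apply (ρ b), ← map_mul,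
      show a * b = b * a * (a * b * a⁻¹ * b⁻¹) by
        rw [Subgroup.mem_center_iff.mp (hcomZ a b) (b * a)]; group,
      map_mul ρ (b * a), Module.End.mul_apply]
    have h1 : ρ (a * b * a⁻¹ * b⁻¹) v = χ a b • v := OddPower.mem_eigSub.mp hv ⟨_, hcomZ a b⟩
    rw [h1, map_smul]
  have hinvμ : ∀ a : Q, ∀ v ∈ Vμ, ρ a v ∈ Vμ := by
    intro a v hv
    refine OddPower.mem_eigSub.mpr fun z => ?_
    show ρ (z : Q) (ρ a v) = μ z • ρ a v
    rw [hswap _ _ v hv, hχZ _ z.2, one_smul,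
      show ρ (z : Q) v = μ z • v from OddPower.mem_eigSub.mp hv z, map_smul]
  set ρRμ := OddPower.resRep ρR Vμ fun r => hinvμ r with hρRμ
  obtain ⟨v₁, ν, -, hv₁, hνv⟩ := EigenChar.exists_common_eigenvector ρRμ
    (fun a b => LinearMap.ext fun v => Subtype.ext (by
      show ρ (a : Q) (ρ (b : Q) v) = ρ (b : Q) (ρ (a : Q) v)
      rw [hswap _ _ _ v.2, a.2 b, one_smul]))
    ⊤ (fun h => hw₀0 (by
      have := (Submodule.eq_bot_iff _).mp h ⟨w₀, hmemμ⟩ trivial
      exact congrArg Subtype.val this))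
    (fun _ _ _ => trivial)
  have hνμ : ∀ z : Z, ν ⟨z, hZR z.2⟩ = μ z := by
    intro z
    have h1 := congrArg Subtype.val (hνv ⟨z, hZR z.2⟩)
    have h2 : ρ (z : Q) (v₁ : M) = μ z • (v₁ : M) := OddPower.mem_eigSub.mp v₁.2 z
    rw [Submodule.coe_smul] at h1
    exact smul_left_injective k (fun h => hv₁ (Subtype.ext h)) (h1.symm.trans h2)
  set Vν := OddPower.eigSub ρR ν with hVν
  have hv₁ν : (v₁ : M) ∈ Vν :=
    OddPower.mem_eigSub.mpr fun r => congrArg Subtype.val (hνv r)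
  -- the stabiliser of the character
  let Fix : ℕ → Prop := fun i => ∀ r : R, ∃ h : (β ^ i) r ∈ R, ν ⟨_, h⟩ = ν r
  have hFadd : ∀ {i j}, Fix i → Fix j → Fix (i + j) := fun {i j} hi hj r => by
    obtain ⟨h1, e1⟩ := hj r
    obtain ⟨h2, e2⟩ := hi ⟨_, h1⟩
    have he : (β ^ (i + j)) r = (β ^ i) ((β ^ j) r) := by rw [pow_add, MulAut.mul_apply]
    exact ⟨he ▸ h2, by simp only [he]; exact e2.trans e1⟩
  have hF0 : Fix 0 := fun r => ⟨r.2, rfl⟩
  have hFmul : ∀ {i}, Fix i → ∀ a, Fix (i * a) := fun {i} hi a => by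
    induction a with
    | zero => exact hF0
    | succ a ih => exact hFadd ih hi
  have hFcongr : ∀ {i j}, β ^ i = β ^ j → Fix i → Fix j := fun {i j} he hi r => by
    obtain ⟨h, e⟩ := hi r
    exact ⟨he ▸ h, by simp only [← he]; exact e⟩
  have hFtop : Fix (p ^ (n + 1)) := hFcongr (by rw [hβ, pow_zero]) hF0
  obtain ⟨l, hl, hlmin⟩ : ∃ l, Fix (p ^ l) ∧ ∀ a, a < l → ¬ Fix (p ^ a) :=
    ⟨Nat.find (p := fun l => Fix (p ^ l)) ⟨n + 1, hFtop⟩, Nat.find_spec (p := fun l => Fix (p ^ l)) _,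
      fun a ha => Nat.find_min (p := fun l => Fix (p ^ l)) _ ha⟩
  have hln : l ≤ n + 1 := not_lt.mp fun h => hlmin _ h hFtop
  have hnofix : ∀ i, 0 < i → i < p ^ l → ¬ Fix i := by
    intro i hi hil hFi
    obtain ⟨a, ha, hg⟩ := (Nat.dvd_prime_pow hp.out).mp (Nat.gcd_dvd_right i (p ^ (n + 1)))
    have hlt : Nat.gcd i (p ^ (n + 1)) < p ^ (n + 1) :=
      lt_of_le_of_lt (Nat.gcd_le_left _ hi)
        (hil.trans_le (Nat.pow_le_pow_right hp.out.pos hln))
    obtain ⟨m, -, hm⟩ := Nat.exists_mul_mod_eq_gcd hlt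
    refine hlmin a ((Nat.pow_lt_pow_iff_right hp.out.one_lt).mp
      (hg ▸ lt_of_le_of_lt (Nat.gcd_le_left _ hi) hil)) ?_
    refine hFcongr ?_ (hFmul hFi m)
    rw [pow_eq_pow_mod (i * m) hβ, hm, hg]
  -- the separating projection
  set π := twist ρR ν * twist ρZ μ with hπ
  have hVνμ : ∀ v ∈ Vν, ∀ z : Z, ρZ z v = μ z • v := fun v hv z => by
    rw [← hνμ]; exact OddPower.mem_eigSub.mp hv ⟨z, hZR z.2⟩
  have hπid : ∀ v ∈ Vν, π v = ((Nat.card Z : k) * (Nat.card R : k)) • v := fun v hv => by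
    rw [hπ, Module.End.mul_apply, twist_apply_eigen ρZ μ (hVνμ v hv), map_smul,
      twist_apply_eigen ρR ν (OddPower.mem_eigSub.mp hv), smul_smul]
  have hZinv : ∀ i, ∀ z ∈ Z, (β ^ i) z ∈ Z := fun i =>
    OddPower.pow_invariant β (hchar _) i
  have hπ0 : ∀ v ∈ Vν, ∀ i, 0 < i → i < p ^ l → π ((X ^ i) v) = 0 := by
    intro v hv i hi hil
    rw [hπ, Module.End.mul_apply]
    have heig : ∀ a : Q, ρ ((β ^ i) a) ((X ^ i) v) = (X ^ i) (ρ a v) := fun a => by
      rw [← Module.End.mul_apply, ← OddPower.pow_semiconj hXρ, Module.End.mul_apply]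
    set σ := OddPower.subAut (β ^ i) Z (hZinv i)
    have hZe : ∀ z : Z, ρZ (σ z) ((X ^ i) v) = μ z • (X ^ i) v := fun z => by
      show ρ ((β ^ i) (z : Q)) _ = _
      rw [heig, show ρ (z : Q) v = μ z • v from hVνμ v hv z, map_smul]
    by_cases hμi : ∀ z, μ (σ z) = μ z
    · have hRinv : ∀ r ∈ R, (β ^ i) r ∈ R := fun r hr v' => by
        obtain ⟨v', rfl⟩ := (β ^ i).surjective v'
        show μ _ = 1
        rw [← hr v']
        refine Eq.trans (congrArg μ (Subtype.ext ?_)) (hμi ⟨_, hcomZ r v'⟩)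
        show (β ^ i) r * (β ^ i) v' * ((β ^ i) r)⁻¹ * ((β ^ i) v')⁻¹ =
          (β ^ i) (r * v' * r⁻¹ * v'⁻¹)
        simp only [map_mul, map_inv]
      set τ := OddPower.subAut (β ^ i) R hRinv
      have hRe : ∀ r : R, ρR (τ r) ((X ^ i) v) = ν r • (X ^ i) v := fun r => by
        show ρ ((β ^ i) (r : Q)) _ = _
        rw [heig, show ρ (r : Q) v = ν r • v from OddPower.mem_eigSub.mp hv r, map_smul]
      rw [twist_apply_eigen ρZ μ (fun z => by
        obtain ⟨z', rfl⟩ := σ.surjective z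
        rw [hZe, hμi]), map_smul]
      obtain ⟨r₀, hr₀⟩ : ∃ r, ν (τ r) ≠ ν r := by
        by_contra hc
        push Not at hc
        exact hnofix i hi hil fun r => ⟨hRinv r r.2, hc r⟩
      rw [twist_apply_other ρR ν τ hRe hr₀, smul_zero]
    · push Not at hμi
      obtain ⟨z, hz⟩ := hμi
      rw [twist_apply_other ρZ μ σ hZe hz, map_zero]
  -- lifting from the stabiliser
  have hVνQ : ∀ a : Q, ∀ v ∈ Vν, ρ a v ∈ Vν := by
    intro a v hv
    refine OddPower.mem_eigSub.mpr fun r => ?_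
    show ρ (r : Q) (ρ a v) = ν r • ρ a v
    rw [hswap _ _ v (OddPower.mem_eigSub.mpr (hVνμ v hv)), r.2 a, one_smul,
      show ρ (r : Q) v = ν r • v from OddPower.mem_eigSub.mp hv r, map_smul]
  have hRl : ∀ r ∈ R, (β ^ p ^ l) r ∈ R := fun r hr => (hl ⟨r, hr⟩).1
  have hVνX : ∀ v ∈ Vν, (X ^ p ^ l) v ∈ Vν := by
    intro v hv
    refine OddPower.mem_eigSub.mpr fun r => ?_
    obtain ⟨r', rfl⟩ := (OddPower.subAut (β ^ p ^ l) R hRl).surjective r
    obtain ⟨h1, e1⟩ := hl r'
    rw [show ν (OddPower.subAut (β ^ p ^ l) R hRl r') = ν r' from e1]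
    show ρ ((β ^ p ^ l) (r' : Q)) ((X ^ p ^ l) v) = _
    rw [← Module.End.mul_apply, ← OddPower.pow_semiconj hXρ, Module.End.mul_apply,
      show ρ (r' : Q) v = ν r' • v from OddPower.mem_eigSub.mp hv r', map_smul]
  have hlift : ∀ (j : ℕ), ∀ v ∈ Vν, ((X ^ p ^ l - 1) ^ j) v ≠ 0 →
      (X - 1) ^ (p ^ l * j + p ^ l - 1) ≠ 0 := by
    intro j v hv hj h0
    have hall : ∀ (i : ℕ), ∀ w ∈ Vν, ((X ^ p ^ l - 1) ^ i) w ∈ Vν := by
      intro i
      induction i with
      | zero => exact fun w hw => hw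
      | succ i ih =>
        intro w hw
        rw [pow_succ, Module.End.mul_apply, LinearMap.sub_apply, Module.End.one_apply]
        exact ih _ (Submodule.sub_mem _ (hVνX w hw) hw)
    have hu := hall j v hv
    have he : ((X - 1) ^ (p ^ l * j + p ^ l - 1)) v =
        ∑ i ∈ Finset.range (p ^ l), (X ^ i) (((X ^ p ^ l - 1) ^ j) v) := by
      rw [show p ^ l * j + p ^ l - 1 = (p ^ l - 1) + p ^ l * j by
        have := Nat.one_le_pow l p hp.out.pos; omega, pow_add, pow_mul, sub_one_pow_char_pow,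
        Module.End.mul_apply, ← geom_sum_end, LinearMap.sum_apply]
    have h1 : π (((X - 1) ^ (p ^ l * j + p ^ l - 1)) v) =
        ((Nat.card Z : k) * (Nat.card R : k)) • ((X ^ p ^ l - 1) ^ j) v := by
      rw [he, map_sum,
        Finset.sum_eq_single_of_mem 0 (Finset.mem_range.mpr (pow_pos hp.out.pos l))
          (fun i hi hi0 => hπ0 _ hu i (Nat.pos_of_ne_zero hi0) (Finset.mem_range.mp hi)),
        pow_zero, Module.End.one_apply, hπid _ hu]
    rw [h0, LinearMap.zero_apply, map_zero] at h1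
    exact hj ((smul_eq_zero.mp h1.symm).resolve_left (mul_ne_zero hcardZ hcardR))
  rcases Nat.eq_or_lt_of_le hln with hl1 | hl1
  · refine Or.inl ?_
    have := hlift 0 v₁ hv₁ν (by simpa using hv₁)
    rwa [mul_zero, zero_add, hl1] at this
  obtain ⟨e, rfl⟩ : ∃ e, n = l + e := Nat.exists_eq_add_of_le (Nat.lt_succ_iff.mp hl1)
  have hye : y = (β ^ p ^ l) ^ p ^ e := by rw [hydef, ← pow_mul, ← pow_add]
  have hFy : Fix (p ^ (l + e)) := by rw [pow_add]; exact hFmul hl _
  have hyR : ∀ r ∈ R, y r ∈ R := fun r hr => (hFy ⟨r, hr⟩).1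
  have hRt : R ≠ ⊤ := by
    intro htop
    let ν' : Q →* k :=
      { toFun := fun u => ν ⟨u, htop ▸ Subgroup.mem_top u⟩
        map_one' := map_one ν
        map_mul' := fun a b => map_mul ν ⟨a, htop ▸ Subgroup.mem_top a⟩ ⟨b, htop ▸ Subgroup.mem_top b⟩ }
    have hν' : ∀ u, ν' (y u) = ν' u := fun u => (hFy ⟨u, htop ▸ Subgroup.mem_top u⟩).2
    have hall : ∀ u, ν' u = 1 := by
      intro u
      have hle : Subgroup.closure (Set.range fun u => u⁻¹ * y u) ≤ ν'.ker := by
        rw [Subgroup.closure_le]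
        rintro _ ⟨u, rfl⟩
        show ν' (u⁻¹ * y u) = 1
        rw [map_mul, hν', ← map_mul, inv_mul_cancel, map_one]
      exact hle (hgen ▸ Subgroup.mem_top u)
    exact hz₁ ((hνμ z₁).symm.trans (hall z₁))
  have S : Extraspecial.Setup R 1 ν 1 :=
    { comm := fun u v => hZR (hcomZ u v)
      nondeg := fun a ha => by
        obtain ⟨v, hv⟩ : ∃ v, χ a v ≠ 1 := not_forall.mp ha
        refine ⟨v, fun h => hv ?_⟩
        have h2 : χ v a = 1 := (hνμ ⟨_, hcomZ v a⟩).symm.trans h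
        have := hχsymm a v
        rwa [h2, mul_one] at this
      ne_top := hRt
      inv := fun r hr => hr
      fix := fun r => rfl
      pow := one_pow 1
      semireg := fun i h1 h2 => absurd h2 (by omega)
      cast_card := natCast_card_ne_zero hqp hQ }
  have hγ : (β ^ p ^ l) ^ p ^ (e + 1) = 1 := by
    rw [← pow_mul, ← pow_add, show l + (e + 1) = l + e + 1 by omega, hβ]
  have hsemi : ∀ i, 0 < i → i < p ^ (e + 1) → ∀ u : Q,
      u⁻¹ * ((β ^ p ^ l) ^ i) u ∈ R → u ∈ R := by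
    intro i hi hil u hu
    obtain ⟨a, ha⟩ := Arith.exists_mul_mod_eq hp.out hi hil
    rw [Nat.add_sub_cancel] at ha
    refine hmodR R hZR hyR u ?_
    have h1 := OddPower.pow_inv_mul_mem _ (OddPower.pow_invariant _ hRl i) hu a
    rw [← pow_mul, pow_eq_pow_mod _ hγ, ha, ← hye] at h1
    exact h1
  obtain ⟨v, hv, hor⟩ := exists_dichotomy hQ S (β ^ p ^ l) hRl (fun r => (hl r).2) hγ hsemi ρ
    (X ^ p ^ l) (by rw [← pow_mul, ← pow_add, show l + (e + 1) = l + e + 1 by omega, hX])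
    (fun u => OddPower.pow_semiconj hXρ _ u) Vν
    (fun h => hv₁ (Subtype.ext (by rw [h] at hv₁ν; simpa using hv₁ν)))
    hVνQ hVνX (fun v hv r => OddPower.mem_eigSub.mp hv r)
  rcases hor with h | ⟨d, hd1, hd2, h, -⟩
  · refine Or.inl ?_
    have := hlift _ v hv h
    rwa [Nat.mul_sub, mul_one, ← pow_add, show l + (e + 1) = l + e + 1 by omega,
      Nat.sub_add_cancel (Nat.pow_le_pow_right hp.out.pos (by omega))] at this
  · have hfix1 : (∀ u : Q, y u = u → β u = u) → e + 1 = l + e + 1 := by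
      intro hU
      rcases Nat.eq_zero_or_pos l with hl0 | hl0
      · omega
      exfalso
      refine hlmin 0 hl0 ?_
      have hZy : ∀ z ∈ Z, y z = z := by
        refine hmin Z (fun h => hRt (top_le_iff.mp (h ▸ hZR))) (hchar Z)
      have hRβ : ∀ r ∈ R, β r ∈ R := fun r hr v => by
        obtain ⟨v, rfl⟩ := β.surjective v
        show μ _ = 1
        rw [← hr v]
        refine congrArg μ (Subtype.ext ?_)
        show β r * β v * (β r)⁻¹ * (β v)⁻¹ = r * v * r⁻¹ * v⁻¹
        rw [← map_inv, ← map_inv, ← map_mul, ← map_mul, ← map_mul,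
          hU _ (hZy _ (hcomZ r v))]
      have hRfix : ∀ r ∈ R, β r = r := fun r hr => hU r (hmin R hRt hRβ r hr)
      intro r
      have he : (β ^ p ^ 0) (r : Q) = r := by rw [pow_zero, pow_one, hRfix r r.2]
      exact ⟨he.symm ▸ r.2, congrArg ν (Subtype.ext he)⟩
    refine Or.inr ⟨?_, e + 1, d, by omega, by omega, hd1, hd2, hfix1, ?_⟩
    · by_contra hc
      push Not at hc
      refine hRt ((Subgroup.eq_top_iff' R).mpr fun u => hZR ?_)
      exact Subgroup.mem_center_iff.mpr fun g => hc g u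
    · have := hlift _ v hv h
      rw [show l + e + 1 - (e + 1) = l by omega]
      have h2 : 2 ≤ p ^ (e + 1) :=
        le_trans hp.out.two_le (Nat.le_self_pow (by omega) p)
      rwa [show p ^ l * (p ^ (e + 1) - 2) + p ^ l = p ^ l * (p ^ (e + 1) - 1) by
        rw [← Nat.mul_succ]; congr 1; omega] at this

end Cfsg.Agent.Lib.HallHigmanB
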