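/-
Theorem B of Hall and Higman for `p`-solvable groups with trivial `p`-core.
-/
import Mathlib
import Cfsg.Agent.Lib.HallHigmanB.Core
import Cfsg.Agent.Lib.PSolvable.HallHigman
import Cfsg.Agent.Lib.PLocal.ActionQuotient
import Cfsg.Agent.Lib.Cores.InvariantSylow

set_option autoImplicit false
set_option linter.unusedSectionVars false
set_option linter.style.haveILetI false

namespace Cfsg.Agent.Lib.HallHigmanB

open Module

/-- **Theorem B** over an algebraically closed field. -/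
theorem theoremB_closed {k : Type*} [Field k] [IsAlgClosed k] {M : Type*} [AddCommGroup M]
    [Module k M] [FiniteDimensional k M] {p : ℕ} [hp : Fact p.Prime] [CharP k p] {G : Type*}
    [Group G] [Finite G] (hsol : Cfsg.IsPSolvable p G) (hO : Cfsg.pCore p G = ⊥)
    (f : G →* Module.End k M) (hf : Function.Injective f) (x : G) (n : ℕ)
    (hx : orderOf x = p ^ (n + 1)) :
    (f x - 1) ^ (p ^ (n + 1) - 1) ≠ 0 ∨ ∃ n₀ q d, 1 ≤ n₀ ∧ n₀ ≤ n + 1 ∧ q.Prime ∧ 1 ≤ d ∧
      p ^ n₀ - 1 = q ^ d ∧ (∀ Q : Sylow q G, ¬ IsMulCommutative Q) ∧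
      (f x - 1) ^ (p ^ (n + 1 - n₀) * (p ^ n₀ - 1) - 1) ≠ 0 := by
  classical
  set y₀ := x ^ p ^ n with hy₀
  have hy₀o : orderOf y₀ = p := by
    rw [hy₀, orderOf_pow' _ (pow_ne_zero _ hp.out.ne_zero), hx,
      Nat.gcd_eq_right (pow_dvd_pow p (Nat.le_succ n)), Nat.pow_div (Nat.le_succ n) hp.out.pos,
      show n + 1 - n = 1 by omega, pow_one]
  set K := Cfsg.pPrimeCore p G with hK
  have hKp : (Nat.card K).Coprime p := PSolvable.card_pPrimeCore_coprime
  set A := Subgroup.zpowers x with hA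
  have hAK : A ≤ Subgroup.normalizer (K : Set G) := by
    rw [Subgroup.normalizer_eq_top_iff.mpr inferInstance]
    exact le_top
  have hcop : (Nat.card A).Coprime (Nat.card K) := by
    rw [hA, Nat.card_zpowers, hx]
    exact (hKp.symm).pow_left _
  have hAs : Group.IsSolvable A := Group.isSolvable_of_comm fun a b => by
    obtain ⟨i, hi⟩ := Subgroup.mem_zpowers_iff.mp a.2
    obtain ⟨j, hj⟩ := Subgroup.mem_zpowers_iff.mp b.2
    refine Subtype.ext ?_
    show (a : G) * b = b * a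
    rw [← hi, ← hj, ← zpow_add, ← zpow_add, add_comm]
  -- an invariant Sylow subgroup moved by the element of order `p`
  obtain ⟨q, hq, hqd, P, hPK, hPq, hPA, hPy⟩ : ∃ q, q.Prime ∧ q ∣ Nat.card K ∧ ∃ P : Subgroup G,
      P ≤ K ∧ IsPGroup q P ∧ A ≤ Subgroup.normalizer (P : Set G) ∧
      ¬ P ≤ Subgroup.centralizer ({y₀} : Set G) := by
    by_contra hc
    push Not at hc
    have hKC : K ≤ Subgroup.centralizer ({y₀} : Set G) := by
      refine inf_eq_left.mp (Subgroup.eq_of_le_of_card_ge (H := K ⊓ _) inf_le_left ?_)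
      set C := (Subgroup.centralizer ({y₀} : Set G)).subgroupOf K
      have h1 : C.index = 1 := by
        refine Nat.eq_one_iff_not_exists_prime_dvd.mpr fun q hq hd => ?_
        haveI := Fact.mk hq
        obtain ⟨P, hPK, hPq, hPi, hPA⟩ :=
          Cores.InvariantSylow.exists_invariant hAK hcop (Or.inl hAs) q
        have hle := hc q hq (hd.trans (Subgroup.index_dvd_card C)) P hPK hPq hPA
        exact hPi (hd.trans (Subgroup.relIndex_dvd_of_le_left K hle))
      rw [Subgroup.index_eq_one, Subgroup.subgroupOf_eq_top] at h1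
      rw [inf_eq_left.mpr h1]
    have hy₀K : y₀ ∈ K := PLocal.centralizer_pPrimeCore_le hsol hO (by
      rw [Subgroup.mem_centralizer_iff]
      exact fun g hg => Subgroup.mem_centralizer_singleton_iff.mp (hKC hg))
    exact hp.out.one_lt.ne' (Nat.eq_one_of_dvd_coprimes hKp
      (hy₀o ▸ K.orderOf_dvd_natCard hy₀K) dvd_rfl)
  haveI := Fact.mk hq
  have hqp : q ≠ p := fun e =>
    hp.out.one_lt.ne' (Nat.eq_one_of_dvd_coprimes hKp (e ▸ hqd) dvd_rfl)
  obtain ⟨Q, ⟨hQP, hQx, hQy⟩, hQmin⟩ := exists_minimal_of_wellFoundedLT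
    (fun Q : Subgroup G => Q ≤ P ∧ x ∈ Subgroup.normalizer (Q : Set G) ∧
      ¬ Q ≤ Subgroup.centralizer ({y₀} : Set G)) ⟨P, le_rfl, hPA (Subgroup.mem_zpowers x), hPy⟩
  set ψ := Subgroup.normalizerMonoidHom Q
  set x' : Subgroup.normalizer (Q : Set G) := ⟨x, hQx⟩ with hx'
  set β := ψ x' with hβdef
  have hψ : ∀ (g : Subgroup.normalizer (Q : Set G)) (u : Q),
      ((ψ g u : Q) : G) = g * u * (g : G)⁻¹ := fun g u => rfl
  have hβpow : ∀ (i : ℕ) (u : Q), (((β ^ i) u : Q) : G) = x ^ i * u * (x ^ i)⁻¹ := fun i u => by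
    rw [hβdef, ← map_pow, hψ]
    rfl
  have hQq : IsPGroup q Q := hPq.to_le hQP
  have hfix : ∀ u : Q, (β ^ p ^ n) u = u ↔ (u : G) ∈ Subgroup.centralizer ({y₀} : Set G) := by
    intro u
    rw [Subgroup.mem_centralizer_singleton_iff, ← Subtype.coe_inj, hβpow, ← hy₀,
      mul_inv_eq_iff_eq_mul]
    exact eq_comm
  obtain hres | ⟨⟨a, b, hab⟩, n₀, d, h1, h2, h3, h4, -, h5⟩ :=
    core (M := M) hqp hQq β (n := n)
      (MulEquiv.ext fun u => Subtype.ext (by
        rw [hβpow, ← hx, pow_orderOf_eq_one]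
        simp))
      (fun h => hQy fun u hu => (hfix ⟨u, hu⟩).mp (by rw [h]; rfl))
      (fun L hL hLinv u hu => by
        rw [hfix]
        by_contra hu'
        have hLQ : L.map Q.subtype ≤ Q := Subgroup.map_subtype_le L
        have hle := hQmin (y := L.map Q.subtype) ⟨hLQ.trans hQP, ?_, fun h =>
          hu' (h (Subgroup.mem_map_of_mem _ hu))⟩ hLQ
        · refine hL (eq_top_iff.mpr fun w _ => ?_)
          obtain ⟨w', hw', hww⟩ := hle w.2
          rwa [← Subtype.ext hww]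
        · haveI : Finite ((L.map Q.subtype : Subgroup G) : Set G) := Set.toFinite _
          refine Subgroup.mem_normalizer_fintype ?_
          rintro _ ⟨w, hw, rfl⟩
          refine ⟨β w, hLinv w hw, ?_⟩
          have := hβpow 1 w
          simpa using this)
      (f.comp Q.subtype) (hf.comp Q.subtype_injective) (f x)
      (by rw [← map_pow, ← hx, pow_orderOf_eq_one, map_one])
      (fun u => by
        show f x * f (u : G) = f ((β u : Q) : G) * f x
        rw [← map_mul, ← map_mul]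
        congr 1
        have := hβpow 1 u
        rw [pow_one, pow_one] at this
        rw [this, inv_mul_cancel_right])
  · exact Or.inl hres
  refine Or.inr ⟨n₀, q, d, h1, h2, hq, h3, h4.symm, fun S hS => hab ?_, h5⟩
  obtain ⟨S₀, hS₀⟩ := hQq.exists_le_sylow
  haveI := hS
  have hc : IsMulCommutative (S₀ : Subgroup G) := by
    refine ⟨⟨fun u v => ?_⟩⟩
    obtain ⟨e⟩ : Nonempty ((S₀ : Subgroup G) ≃* (S : Subgroup G)) := ⟨S₀.equiv S⟩
    exact e.injective (by rw [map_mul, map_mul]; exact mul_comm' _ _)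
  have hc2 := congrArg Subtype.val (hc.is_comm.comm ⟨a, hS₀ a.2⟩ ⟨b, hS₀ b.2⟩)
  exact Subtype.ext hc2

/-- **Theorem B** over any field of characteristic `p`. -/
theorem theoremB {F : Type*} [Field F] {p : ℕ} [hp : Fact p.Prime] [CharP F p] {V : Type*}
    [AddCommGroup V] [Module F V] [FiniteDimensional F V] {G : Type*} [Group G] [Finite G]
    (hsol : Cfsg.IsPSolvable p G) (hO : Cfsg.pCore p G = ⊥) (f : G →* Module.End F V)
    (hf : Function.Injective f) (x : G) (n : ℕ) (hx : orderOf x = p ^ (n + 1)) :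
    (f x - 1) ^ (p ^ (n + 1) - 1) ≠ 0 ∨ ∃ n₀ q d, 1 ≤ n₀ ∧ n₀ ≤ n + 1 ∧ q.Prime ∧ 1 ≤ d ∧
      p ^ n₀ - 1 = q ^ d ∧ (∀ Q : Sylow q G, ¬ IsMulCommutative Q) ∧
      (f x - 1) ^ (p ^ (n + 1 - n₀) * (p ^ n₀ - 1) - 1) ≠ 0 := by
  classical
  let b := Module.finBasis F V
  let k := AlgebraicClosure F
  haveI : CharP k p := charP_of_injective_algebraMap (algebraMap F k).injective p
  let φ : Module.End F V →+* Module.End k (Fin (Module.finrank F V) → k) :=
    (Matrix.toLinAlgEquiv' (R := k)).toRingEquiv.toRingHom.comp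
      ((algebraMap F k).mapMatrix.comp (LinearMap.toMatrixAlgEquiv b).toRingEquiv.toRingHom)
  have hφ : Function.Injective φ := fun P Q h =>
    (LinearMap.toMatrixAlgEquiv b).injective (Matrix.map_injective (algebraMap F k).injective
      ((Matrix.toLinAlgEquiv' (R := k)).injective h))
  have key : ∀ i : ℕ, (φ (f x) - 1) ^ i ≠ 0 → (f x - 1) ^ i ≠ 0 := fun i hi h => hi (by
    rw [← map_one φ, ← map_sub, ← map_pow, h, map_zero])
  rcases theoremB_closed hsol hO (φ.toMonoidHom.comp f) (hφ.comp hf) x n hx with h |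
      ⟨n₀, q, d, h1, h2, h3, h4, h5, h6, h7⟩
  · exact Or.inl (key _ h)
  · exact Or.inr ⟨n₀, q, d, h1, h2, h3, h4, h5, h6, key _ h7⟩

end Cfsg.Agent.Lib.HallHigmanB
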